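import Mathlib
import Cfsg.Agent.S0111

set_option autoImplicit false
open Subgroup

namespace Cfsg.Agent.H56.Ord7920

/-- Thompson transfer inside a subgroup `M` with no subgroup of (relative) index 2. -/
theorem thompson_in_subgroup {G : Type*} [Group G] [Finite G] (M : Subgroup G)
    (hM : ∀ M' : Subgroup G, M' ≤ M → M'.relIndex M = 2 → False)
    (S T : Subgroup G) (hSM : S ≤ M) (hS2 : IsPGroup 2 S) (hSyl : ¬ 2 ∣ Nat.card M / Nat.card S)
    (hTS : T ≤ S) (hidx : T.relIndex S = 2)
    (u : G) (hu : orderOf u = 2) (huS : u ∈ S) (huT : u ∉ T) :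
    ∃ g ∈ M, g * u * g⁻¹ ∈ T := by
  classical
  have : Fact (Nat.Prime 2) := ⟨Nat.prime_two⟩
  -- the Sylow 2-subgroup of `M`
  have hcardS : Nat.card (S.subgroupOf M) = Nat.card S :=
    Nat.card_congr (Subgroup.subgroupOfEquivOfLe hSM).toEquiv
  have hindex : (S.subgroupOf M).index = Nat.card M / Nat.card S := by
    have h1 := Subgroup.card_mul_index (S.subgroupOf M)
    rw [hcardS] at h1
    have hpos : 0 < Nat.card S := Nat.card_pos
    exact (Nat.div_eq_of_eq_mul_right hpos h1.symm).symm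
  have hp : IsPGroup 2 (S.subgroupOf M) := by
    exact hS2.comap_of_injective M.subtype (Subgroup.subtype_injective M)
  have hnd : ¬ 2 ∣ (S.subgroupOf M).index := by rw [hindex]; exact hSyl
  let P : Sylow 2 M := hp.toSylow hnd
  have hPcoe : (P : Subgroup M) = S.subgroupOf M := rfl
  have hQP : T.subgroupOf M ≤ (P : Subgroup M) := by
    rw [hPcoe]
    intro x hx
    rw [Subgroup.mem_subgroupOf] at hx ⊢
    exact hTS hx
  have hQi : (T.subgroupOf M).relIndex (P : Subgroup M) = 2 := by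
    rw [hPcoe, Subgroup.relIndex_subgroupOf hSM, hidx]
  have hu' : orderOf (⟨u, hSM huS⟩ : M) = 2 := by
    rw [← Subgroup.orderOf_coe]; exact hu
  have huP : (⟨u, hSM huS⟩ : M) ∈ (P : Subgroup M) := by
    rw [hPcoe, Subgroup.mem_subgroupOf]; exact huS
  have huQ : (⟨u, hSM huS⟩ : M) ∉ T.subgroupOf M := by
    rw [Subgroup.mem_subgroupOf]; exact huT
  rcases Cfsg.Agent.S0111.result P (T.subgroupOf M) hQP hQi ⟨u, hSM huS⟩ hu' huP huQ with
    ⟨M0, hM0n, hM0i, -⟩ | ⟨g, hg⟩
  · exfalso
    apply hM (M0.map M.subtype) (Subgroup.map_subtype_le M0)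
    show ((M0.map M.subtype).comap M.subtype).index = 2
    rw [Subgroup.comap_map_eq_self_of_injective (Subgroup.subtype_injective M)]
    exact hM0i
  · refine ⟨g.1, g.2, ?_⟩
    rw [Subgroup.mem_subgroupOf] at hg
    simpa using hg

end Cfsg.Agent.H56.Ord7920
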