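import Cfsg.Agent.H10.HO.Defs2

/-!
# S2075 (helper10's project HO), piece HO-HG (helper56)

An automorphism `β` fixing `x, z, t` fixes every word in them; `w₀ = n⁻¹ β(n)` commutes with every fixed `d`
whose conjugate `n d n⁻¹` is fixed too, so `w₀ ∈ C(z) = {z^a, z^a t}`, and the non-commutation hypotheses leave
`w₀ = 1`; then `β` fixes the generators `x, z, t, n`.
-/

set_option autoImplicit false

namespace Cfsg.Agent.H56.Ho

open Cfsg.Agent.H10.HO

universe u

theorem evS_fixed {G : Type u} [Group G] (x z t : G) (β : MulAut G) (hx : β x = x) (hz : β z = z)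
    (ht : β t = t) : ∀ w : List ℕ, β (evS x z t w) = evS x z t w := by
  intro w
  induction w with
  | nil => exact map_one β
  | cons s w ih =>
    match s with
    | 0 =>
      show β (x * evS x z t w) = x * evS x z t w
      rw [map_mul, hx, ih]
    | 1 =>
      show β (x⁻¹ * evS x z t w) = x⁻¹ * evS x z t w
      rw [map_mul, map_inv, hx, ih]
    | 2 =>
      show β (z * evS x z t w) = z * evS x z t w
      rw [map_mul, hz, ih]
    | 3 =>
      show β (z⁻¹ * evS x z t w) = z⁻¹ * evS x z t w
      rw [map_mul, map_inv, hz, ih]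
    | (s + 4) =>
      show β (t * evS x z t w) = t * evS x z t w
      rw [map_mul, ht, ih]

/-- **HO-HG**. -/
theorem hg : StHG.{u} := by
  intro G _ x z t n k D hC hnz hD hna hnb hgen β hx hz ht
  have hfix := evS_fixed x z t β hx hz ht
  have hpowz : ∀ a : ℕ, β (z ^ a) = z ^ a := fun a => by rw [map_pow, hz]
  have key : ∀ d : G, β d = d → β (n * d * n⁻¹) = n * d * n⁻¹ →
      (n⁻¹ * β n) * d = d * (n⁻¹ * β n) := by
    intro d hd hnd
    rw [map_mul, map_mul, map_inv, hd] at hnd
    have h1 : β n * d = n * d * n⁻¹ * β n := by rw [← hnd]; group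
    calc n⁻¹ * β n * d = n⁻¹ * (β n * d) := by group
      _ = n⁻¹ * (n * d * n⁻¹ * β n) := by rw [h1]
      _ = d * (n⁻¹ * β n) := by group
  have hwz : (n⁻¹ * β n) * z = z * (n⁻¹ * β n) := key z hz (by rw [hnz, hpowz])
  have hwD : ∀ p ∈ D, (n⁻¹ * β n) * evS x z t p.1 = evS x z t p.1 * (n⁻¹ * β n) :=
    fun p hp => key _ (hfix _) (by rw [hD p hp, hfix])
  obtain ⟨a, ha, hw | hw⟩ := hC _ hwz
  · have ha0 : a = 0 := by
      by_contra h0
      obtain ⟨p, hp, hne⟩ := hna a (Nat.pos_of_ne_zero h0) ha
      exact hne (by rw [← hw]; exact hwD p hp)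
    rw [ha0, pow_zero] at hw
    have hn : β n = n := by
      have h2 : n * (n⁻¹ * β n) = n * 1 := by rw [hw]
      rwa [mul_inv_cancel_left, mul_one] at h2
    have hhom : β.toMonoidHom = MonoidHom.id G := by
      apply MonoidHom.eq_of_eqOn_dense hgen
      intro g hg
      simp only [Set.mem_insert_iff, Set.mem_singleton_iff] at hg
      rcases hg with rfl | rfl | rfl | rfl
      · exact hx
      · exact hz
      · exact ht
      · exact hn
    apply MulEquiv.ext
    intro g
    exact DFunLike.congr_fun hhom g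
  · exfalso
    obtain ⟨p, hp, hne⟩ := hnb a ha
    exact hne (by rw [← hw]; exact hwD p hp)

example : Cfsg.Agent.H10.HO.StHG.{u} := hg

end Cfsg.Agent.H56.Ho

#print axioms Cfsg.Agent.H56.Ho.hg
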