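import Cfsg.Agent.H59.JzKillDefs

/-!
# K-FIX (helper59's sub-project JZ-KILL for S2951 / S2952), helper56

`V` of exponent 2 with `|V| ≥ 16`, `b ∈ N(V)` an involution: `τ v = v · b v b⁻¹` is an endomorphism of `V` with
`τ ∘ τ = 1` and kernel `C_V(b)`, so `|V| ≤ |C_V(b)|²` and `C_V(b)` has at least four elements.
-/

set_option autoImplicit false

namespace Cfsg.Agent.H56.Jk

open Cfsg.Agent.H59.JzK

universe u

/-- **K-FIX**. -/
theorem kFix : StKFix.{u} := by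
  intro G _ _ V hsq h16 b hb hb2
  classical
  have hinv : ∀ a ∈ V, a⁻¹ = a := fun a ha => inv_eq_of_mul_eq_one_left (hsq a ha)
  have hcomm : ∀ a ∈ V, ∀ c ∈ V, a * c = c * a := by
    intro a ha c hc
    calc a * c = (a * c)⁻¹ := (inv_eq_of_mul_eq_one_left (hsq _ (V.mul_mem ha hc))).symm
      _ = c⁻¹ * a⁻¹ := mul_inv_rev a c
      _ = c * a := by rw [hinv a ha, hinv c hc]
  have hconj : ∀ v ∈ V, b * v * b⁻¹ ∈ V := fun v hv => (Subgroup.mem_normalizer_iff.1 hb v).1 hv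
  obtain ⟨τ, hτ⟩ : ∃ τ : ↥V →* ↥V, ∀ v : ↥V, ((τ v : ↥V) : G) = v * (b * v * b⁻¹) := by
    refine ⟨MonoidHom.mk' (fun v => ⟨v * (b * v * b⁻¹), V.mul_mem v.2 (hconj v v.2)⟩) (fun v w => ?_),
      fun v => rfl⟩
    apply Subtype.ext
    show ((v : G) * w) * (b * ((v : G) * w) * b⁻¹) = (v * (b * v * b⁻¹)) * (w * (b * w * b⁻¹))
    have e : b * ((v : G) * w) * b⁻¹ = (b * v * b⁻¹) * (b * w * b⁻¹) := by group
    rw [e]
    calc (v : G) * w * ((b * v * b⁻¹) * (b * w * b⁻¹))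
        = v * (w * (b * v * b⁻¹)) * (b * w * b⁻¹) := by group
      _ = v * ((b * v * b⁻¹) * w) * (b * w * b⁻¹) := by rw [hcomm w w.2 _ (hconj v v.2)]
      _ = (v * (b * v * b⁻¹)) * (w * (b * w * b⁻¹)) := by group
  have hle : τ.range ≤ τ.ker := by
    rintro _ ⟨v, rfl⟩
    rw [MonoidHom.mem_ker]
    apply Subtype.ext
    rw [hτ, hτ]
    have e : b * ((v : G) * (b * v * b⁻¹)) * b⁻¹ = (b * v * b⁻¹) * ((b * b) * v * (b * b)⁻¹) := by group
    rw [e, hb2, one_mul, inv_one, mul_one, mul_assoc, ← mul_assoc (b * (v : G) * b⁻¹),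
      hsq _ (hconj v v.2), one_mul, hsq v v.2]
    rfl
  have h1 : Nat.card τ.ker * τ.ker.index = Nat.card ↥V := Subgroup.card_mul_index τ.ker
  have h2 : τ.ker.index = Nat.card τ.range := Subgroup.index_ker τ
  have h3 : Nat.card τ.range ≤ Nat.card τ.ker := Subgroup.card_le_of_le hle
  have h4 : 2 < Nat.card τ.ker := by
    by_contra hlt
    have h5 : Nat.card τ.ker ≤ 2 := by omega
    have h6 : Nat.card ↥V ≤ 2 * 2 := by
      rw [← h1, h2]
      exact Nat.mul_le_mul h5 (h3.trans h5)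
    omega
  have hfix : ∀ y ∈ τ.ker, b * (y : G) = (y : G) * b := by
    intro y hy
    have h7 : ((τ y : ↥V) : G) = 1 := by rw [MonoidHom.mem_ker.1 hy]; rfl
    rw [hτ] at h7
    -- `y * (b y b⁻¹) = 1`, so `b y b⁻¹ = y⁻¹ = y`
    have h8 : b * (y : G) * b⁻¹ = y := by
      have := eq_inv_of_mul_eq_one_right h7
      rw [this, hinv y y.2]
    exact mul_inv_eq_iff_eq_mul.1 h8
  have hfin : Fintype ↥τ.ker := Fintype.ofFinite _
  rw [Nat.card_eq_fintype_card, Fintype.two_lt_card_iff] at h4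
  obtain ⟨x, y, z, hxy, hxz, hyz⟩ := h4
  have key : ∀ p q : ↥τ.ker, p ≠ q → p ≠ 1 → q ≠ 1 →
      ∃ v₁ ∈ V, ∃ v₂ ∈ V, v₁ ≠ 1 ∧ v₂ ≠ 1 ∧ v₁ ≠ v₂ ∧ b * v₁ = v₁ * b ∧ b * v₂ = v₂ * b := by
    intro p q hpq hp hq
    refine ⟨((p : ↥V) : G), (p : ↥V).2, ((q : ↥V) : G), (q : ↥V).2, ?_, ?_, ?_, hfix _ p.2, hfix _ q.2⟩
    · exact fun h => hp (Subtype.ext (Subtype.ext h))
    · exact fun h => hq (Subtype.ext (Subtype.ext h))
    · exact fun h => hpq (Subtype.ext (Subtype.ext h))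
  by_cases hx : x = 1
  · exact key y z hyz (fun h => hxy (hx.trans h.symm)) (fun h => hxz (hx.trans h.symm))
  · by_cases hy : y = 1
    · exact key x z hxz hx (fun h => hyz (hy.trans h.symm))
    · exact key x y hxy hx hy

example : Cfsg.Agent.H59.JzK.StKFix.{u} := kFix

end Cfsg.Agent.H56.Jk

#print axioms Cfsg.Agent.H56.Jk.kFix
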