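import Mathlib

/-!
# A quotient that is a direct product with a cyclic group (helper56, for helper49's half of S2608)

`A ⧸ N ≅ D × C_f` when `P = ker Ψ` with `Ψ : A → C` onto a cyclic group of order `f`, `P ⧸ N ≅ D` through `χ`,
and `φ` maps to a generator of `C`, has `φ ^ f ∈ N` and centralises `P` modulo `N`.
-/

set_option autoImplicit false

namespace Cfsg.Agent.H56

theorem quot_equiv_prod_of_gen {A C D : Type*} [Group A] [Group C] [Group D] (N P : Subgroup A) [N.Normal]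
    (Ψ : A →* C) (hsurj : Function.Surjective Ψ) (hP : Ψ.ker = P) (hN : N ≤ P)
    (χ : ↥P →* D) (hχs : Function.Surjective χ) (hχk : χ.ker = N.subgroupOf P)
    (f : ℕ) (hf : 0 < f) (hC : IsCyclic C) (hcard : Nat.card C = f)
    (φ : A) (hord : orderOf (Ψ φ) = f) (hpow : φ ^ f ∈ N)
    (hcomm : ∀ x ∈ P, φ * x * φ⁻¹ * x⁻¹ ∈ N) :
    Nonempty (A ⧸ N ≃* D × Multiplicative (ZMod f)) := by
  classical
  have hNker : N ≤ Ψ.ker := by rw [hP]; exact hN
  obtain ⟨π, Ψb, hπ1, hπs, hΨb⟩ : ∃ (π : A →* A ⧸ N) (Ψb : A ⧸ N →* C),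
      (∀ x : A, π x = 1 ↔ x ∈ N) ∧ Function.Surjective π ∧ ∀ a, Ψb (π a) = Ψ a :=
    ⟨QuotientGroup.mk' N, QuotientGroup.lift N Ψ hNker, fun x => QuotientGroup.eq_one_iff x,
      QuotientGroup.mk'_surjective N, fun a => rfl⟩
  have hPker : ∀ x : ↥P, Ψ (x : A) = 1 := by
    intro x
    have : (x : A) ∈ Ψ.ker := by rw [hP]; exact x.2
    exact this
  -- the map `D → A ⧸ N`
  have hwd : ∀ x y : ↥P, χ x = χ y → π (x : A) = π (y : A) := by
    intro x y hxy
    have hk : x⁻¹ * y ∈ χ.ker := by rw [MonoidHom.mem_ker, map_mul, map_inv, hxy, inv_mul_cancel]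
    rw [hχk, Subgroup.mem_subgroupOf] at hk
    have h1 := (hπ1 _).2 hk
    rw [Subgroup.coe_mul, Subgroup.coe_inv, map_mul, map_inv, inv_mul_eq_one] at h1
    exact h1
  choose r hr using hχs
  obtain ⟨g, hg⟩ : ∃ g : D →* A ⧸ N, ∀ x : ↥P, g (χ x) = π (x : A) := by
    refine ⟨MonoidHom.mk' (fun d => π (r d : A)) (fun d d' => ?_), fun x => hwd _ _ (hr _)⟩
    rw [← map_mul, ← Subgroup.coe_mul]
    exact hwd _ (r d * r d') (by rw [map_mul, hr, hr, hr])
  -- the class of `φ`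
  have hxf : (π φ) ^ f = 1 := by rw [← map_pow]; exact (hπ1 _).2 hpow
  have hxc : ∀ x : ↥P, Commute (π (x : A)) (π φ) := by
    intro x
    have h1 := (hπ1 _).2 (hcomm x x.2)
    rw [map_mul, map_mul, map_mul, map_inv, map_inv, mul_inv_eq_one, mul_inv_eq_iff_eq_mul] at h1
    exact h1.symm
  have hord' : orderOf (π φ) = f := by
    apply Nat.dvd_antisymm (orderOf_dvd_of_pow_eq_one hxf)
    rw [← hord, ← hΨb]
    exact orderOf_map_dvd Ψb (π φ)
  have hcomT : ∀ (d : D) (z : ↥(Subgroup.zpowers (π φ))),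
      Commute (g d) ((Subgroup.zpowers (π φ)).subtype z) := by
    intro d z
    obtain ⟨k, hk⟩ := Subgroup.mem_zpowers_iff.1 z.2
    show Commute (g d) (z : A ⧸ N)
    rw [← hk, ← hr d, hg]
    exact (hxc (r d)).zpow_right k
  have hψ : ∀ p : D × ↥(Subgroup.zpowers (π φ)),
      MonoidHom.noncommCoprod g (Subgroup.zpowers (π φ)).subtype hcomT p = g p.1 * (p.2 : A ⧸ N) :=
    fun p => rfl
  have hZ1 : ∀ z ∈ Subgroup.zpowers (π φ), Ψb z = 1 → z = 1 := by
    intro z hz hz1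
    obtain ⟨k, rfl⟩ := Subgroup.mem_zpowers_iff.1 hz
    rw [map_zpow, hΨb, ← orderOf_dvd_iff_zpow_eq_one, hord] at hz1
    obtain ⟨m, rfl⟩ := hz1
    rw [zpow_mul, zpow_natCast, hxf, one_zpow]
  have hinj : Function.Injective (MonoidHom.noncommCoprod g (Subgroup.zpowers (π φ)).subtype hcomT) := by
    rw [injective_iff_map_eq_one]
    rintro ⟨d, z⟩ hdz
    rw [hψ] at hdz
    have hdz' : g d * (z : A ⧸ N) = 1 := hdz
    have hgd : Ψb (g d) = 1 := by rw [← hr d, hg, hΨb]; exact hPker _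
    have hz1 : Ψb (z : A ⧸ N) = 1 := by
      have := congrArg Ψb hdz'
      rwa [map_mul, hgd, one_mul, map_one] at this
    have hz : (z : A ⧸ N) = 1 := hZ1 _ z.2 hz1
    rw [hz, mul_one, ← hr d, hg, hπ1] at hdz'
    have hd : d = 1 := by
      rw [← hr d]
      have : r d ∈ χ.ker := by rw [hχk, Subgroup.mem_subgroupOf]; exact hdz'
      exact this
    exact Prod.ext hd (Subtype.ext hz)
  have hfin : Finite C := Nat.finite_of_card_ne_zero (by rw [hcard]; exact hf.ne')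
  have htop : Subgroup.zpowers (Ψ φ) = ⊤ := by
    apply Subgroup.eq_top_of_card_eq
    rw [Nat.card_zpowers, hord, hcard]
  have hsur : Function.Surjective (MonoidHom.noncommCoprod g (Subgroup.zpowers (π φ)).subtype hcomT) := by
    intro q
    obtain ⟨a, rfl⟩ := hπs q
    have ha : Ψ a ∈ Subgroup.zpowers (Ψ φ) := by rw [htop]; exact Subgroup.mem_top _
    obtain ⟨k, hk⟩ := Subgroup.mem_zpowers_iff.1 ha
    have hx : a * φ ^ (-k) ∈ P := by
      rw [← hP, MonoidHom.mem_ker, map_mul, map_zpow, zpow_neg, hk, mul_inv_cancel]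
    refine ⟨(χ ⟨a * φ ^ (-k), hx⟩, ⟨(π φ) ^ k, Subgroup.zpow_mem_zpowers _ k⟩), ?_⟩
    rw [hψ, hg]
    show π (a * φ ^ (-k)) * (π φ) ^ k = π a
    rw [map_mul, map_zpow, zpow_neg, inv_mul_cancel_right]
  have hZc : Nat.card ↥(Subgroup.zpowers (π φ)) = f := by rw [Nat.card_zpowers, hord']
  obtain ⟨eZ⟩ : Nonempty (↥(Subgroup.zpowers (π φ)) ≃* Multiplicative (ZMod f)) := by
    rw [← hZc]
    exact ⟨(zmodCyclicMulEquiv (Subgroup.isCyclic_zpowers (π φ))).symm⟩
  exact ⟨(MulEquiv.ofBijective _ ⟨hinj, hsur⟩).symm.trans (MulEquiv.prodCongr (MulEquiv.refl D) eZ)⟩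

end Cfsg.Agent.H56

#print axioms Cfsg.Agent.H56.quot_equiv_prod_of_gen
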