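import Cfsg.Agent.H23.Gen.E8.Tabs
import Cfsg.Prelude.Def_ChevAutomorphisms

/-!
# S2156 (helper23's project SD): the table facts of type `E₈` for the generic glue
`Cfsg.Agent.H46.SD.sdType_of` (helper56)

All facts are about the datum `chevE8` and the exponent function `zR chevE8 ctblE8` only (light closure).
-/

set_option autoImplicit false
set_option maxRecDepth 100000

namespace Cfsg.Agent.H56.Sd

open Cfsg Cfsg.Lie Cfsg.Agent.H23

theorem e8_T1 : ∀ i < chevE8.rank, ∀ j < chevE8.rank, i ≠ j →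
    chevE8.commTerms (chevE8.neg (chevE8.simple i)) (chevE8.simple j) = [] := by decide +kernel

theorem e8_T2 : ∀ i < chevE8.rank, ∀ j < chevE8.rank, i ≠ j →
    zR chevE8 ctblE8 (chevE8.simple j) (chevE8.simple i) = 0 →
    chevE8.commTerms (chevE8.simple i) (chevE8.simple j) = [] := by decide +kernel

theorem e8_T3 : ∀ i < chevE8.rank, ∀ j < chevE8.rank, i ≠ j →
    zR chevE8 ctblE8 (chevE8.simple j) (chevE8.simple i) ≠ 0 →
    chevE8.reflectRoot i (chevE8.simple j) ≠ chevE8.simple j := by decide +kernel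

theorem e8_T4 : ∀ i < chevE8.rank, chevE8.reflectRoot i (chevE8.simple i) = chevE8.neg (chevE8.simple i) := by
  decide +kernel

theorem e8_cz : ∀ i < chevE8.rank, ∀ j < chevE8.rank,
    chevE8.cartan i (chevE8.simple j) = zR chevE8 ctblE8 (chevE8.simple i) (chevE8.simple j) := by decide +kernel

theorem e8_short : ∀ i < chevE8.rank, chevE8.isLong (chevE8.simple i) = false := by decide +kernel

theorem e8_A : ∀ i < chevE8.rank, ∀ j < chevE8.rank, i ≠ j →
    zR chevE8 ctblE8 (chevE8.simple j) (chevE8.simple i) ≠ 0 →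
    zR chevE8 ctblE8 (chevE8.simple j) (chevE8.simple i) =
      if chevE8.isLong (chevE8.simple i) && !chevE8.isLong (chevE8.simple j) then -((2 : ℕ) : ℤ) else -1 := by
  decide +kernel

theorem e8_ex : ∃ i < chevE8.rank, ∃ j < chevE8.rank, i ≠ j ∧ zR chevE8 ctblE8 (chevE8.simple j) (chevE8.simple i) = -1 := by
  decide +kernel

theorem e8_edges :
    zR chevE8 ctblE8 (chevE8.simple 2) (chevE8.simple 0) = -1 ∧
    zR chevE8 ctblE8 (chevE8.simple 3) (chevE8.simple 2) = -1 ∧
    zR chevE8 ctblE8 (chevE8.simple 1) (chevE8.simple 3) = -1 ∧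
    zR chevE8 ctblE8 (chevE8.simple 4) (chevE8.simple 3) = -1 ∧
    zR chevE8 ctblE8 (chevE8.simple 5) (chevE8.simple 4) = -1 ∧
    zR chevE8 ctblE8 (chevE8.simple 6) (chevE8.simple 5) = -1 ∧
    zR chevE8 ctblE8 (chevE8.simple 7) (chevE8.simple 6) = -1 := by
  decide +kernel

/-- The diagram of type `E₈` is connected (all nodes are short, so every edge joins nodes of equal length). -/
theorem e8_conn : ∀ P : ℕ → Prop, P 0 → P 0 →
    (∀ i < chevE8.rank, ∀ j < chevE8.rank, i ≠ j → zR chevE8 ctblE8 (chevE8.simple j) (chevE8.simple i) ≠ 0 →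
      chevE8.isLong (chevE8.simple i) = chevE8.isLong (chevE8.simple j) → P i → P j) → ∀ i < chevE8.rank, P i := by
  intro P h0 _ hstep
  have st : ∀ i < chevE8.rank, ∀ j < chevE8.rank, zR chevE8 ctblE8 (chevE8.simple j) (chevE8.simple i) = -1 → P i → P j := by
    intro i hi j hj hz hPi
    have hne : i ≠ j := by
      rintro rfl
      have h2 : ∀ i < chevE8.rank, zR chevE8 ctblE8 (chevE8.simple i) (chevE8.simple i) ≠ -1 := by decide +kernel
      exact h2 i hi hz
    exact hstep i hi j hj hne (by rw [hz]; decide) (by rw [e8_short i hi, e8_short j hj]) hPi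
  have hE := e8_edges
  have h2 : P 2 := st 0 (by decide) 2 (by decide) hE.1 h0
  have h3 : P 3 := st 2 (by decide) 3 (by decide) hE.2.1 h2
  have h1 : P 1 := st 3 (by decide) 1 (by decide) hE.2.2.1 h3
  have h4 : P 4 := st 3 (by decide) 4 (by decide) hE.2.2.2.1 h3
  have h5 : P 5 := st 4 (by decide) 5 (by decide) hE.2.2.2.2.1 h4
  have h6 : P 6 := st 5 (by decide) 6 (by decide) hE.2.2.2.2.2.1 h5
  have h7 : P 7 := st 6 (by decide) 7 (by decide) hE.2.2.2.2.2.2 h6
  intro i hi
  have hi' : i < 8 := hi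
  interval_cases i <;> assumption

/-- Every injection of the nodes preserves the root lengths (all nodes are short). -/
theorem e8_pilen : ∀ π : ℕ → ℕ, (∀ i < chevE8.rank, π i < chevE8.rank) →
    (∀ i < chevE8.rank, ∀ j < chevE8.rank, π i = π j → i = j) →
    (∀ i < chevE8.rank, ∀ j < chevE8.rank, i ≠ j →
      (zR chevE8 ctblE8 (chevE8.simple (π j)) (chevE8.simple (π i)) ≠ 0 ↔ zR chevE8 ctblE8 (chevE8.simple j) (chevE8.simple i) ≠ 0)) →
    ((∀ i < chevE8.rank, chevE8.isLong (chevE8.simple (π i)) = chevE8.isLong (chevE8.simple i)) ∨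
      (∀ i < chevE8.rank, chevE8.isLong (chevE8.simple (π i)) = !chevE8.isLong (chevE8.simple i))) := by
  intro π hπ _ _
  left
  intro i hi
  rw [e8_short i hi, e8_short (π i) (hπ i hi)]

end Cfsg.Agent.H56.Sd
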