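import Mathlib
import Cfsg.Agent.S3012
import Cfsg.Agent.S3013
import Cfsg.Agent.S3195
import Cfsg.Agent.H13.PCore
import Cfsg.Agent.H11.Cores
import Cfsg.Agent.H27.Layer

set_option autoImplicit false

/-!
# Minimal counterexample to the Sidki pair problem, part A (helper56)

Generalities and the first reductions for S3048: `O₂(G) = 1`, the centralizer dichotomy,
`C_V(N) = 1` and `G = V N` for every nontrivial normal subgroup `N`, no nontrivial solvable
normal subgroup.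
-/

namespace Cfsg.Agent.H56

open Cfsg

universe u

section basics

variable {G : Type*} [Group G]

theorem sm_elemAb_map {G' : Type*} [Group G'] {V : Subgroup G} (hV : IsElementaryAbelian 2 V)
    (f : G →* G') : IsElementaryAbelian 2 (V.map f) := by
  refine ⟨⟨⟨?_⟩⟩, ?_⟩
  · rintro ⟨_, a, ha, rfl⟩ ⟨_, b, hb, rfl⟩
    apply Subtype.ext
    show f a * f b = f b * f a
    rw [← map_mul, ← map_mul, S3013.comm_of_mem hV.1 ha hb]
  · rintro _ ⟨a, ha, rfl⟩
    rw [← map_pow, hV.2 a ha, map_one]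

theorem sm_elemAb_of_le {V W : Subgroup G} (hV : IsElementaryAbelian 2 V) (hW : W ≤ V) :
    IsElementaryAbelian 2 W := by
  refine ⟨⟨⟨?_⟩⟩, fun a ha => hV.2 a (hW ha)⟩
  rintro ⟨a, ha⟩ ⟨b, hb⟩
  exact Subtype.ext (S3013.comm_of_mem hV.1 (hW ha) (hW hb))

theorem sm_elemAb_subgroupOf {V : Subgroup G} (hV : IsElementaryAbelian 2 V) (H : Subgroup G) :
    IsElementaryAbelian 2 (V.subgroupOf H) := by
  refine ⟨⟨⟨?_⟩⟩, ?_⟩
  · rintro ⟨a, ha⟩ ⟨b, hb⟩
    apply Subtype.ext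
    apply Subtype.ext
    exact S3013.comm_of_mem hV.1 (Subgroup.mem_subgroupOf.1 ha) (Subgroup.mem_subgroupOf.1 hb)
  · intro a ha
    apply Subtype.ext
    have := hV.2 (a : G) (Subgroup.mem_subgroupOf.1 ha)
    simpa using this

theorem sm_sq {V : Subgroup G} (hV : IsElementaryAbelian 2 V) {v : G} (hv : v ∈ V) :
    v * v = 1 := by
  have := hV.2 v hv
  rwa [pow_two] at this

theorem sm_inv {V : Subgroup G} (hV : IsElementaryAbelian 2 V) {v : G} (hv : v ∈ V) :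
    v⁻¹ = v := by
  rw [inv_eq_iff_mul_eq_one]; exact sm_sq hV hv

theorem sm_exists_of_inf_ne_bot {A B : Subgroup G} (h : A ⊓ B ≠ ⊥) :
    ∃ x, x ∈ A ∧ x ∈ B ∧ x ≠ 1 := by
  obtain ⟨⟨x, hx⟩, hx1⟩ := (Subgroup.ne_bot_iff_exists_ne_one).1 h
  exact ⟨x, hx.1, hx.2, fun h1 => hx1 (Subtype.ext h1)⟩

theorem sm_exists_of_ne_bot {A : Subgroup G} (h : A ≠ ⊥) : ∃ x, x ∈ A ∧ x ≠ 1 := by
  obtain ⟨⟨x, hx⟩, hx1⟩ := (Subgroup.ne_bot_iff_exists_ne_one).1 h
  exact ⟨x, hx, fun h1 => hx1 (Subtype.ext h1)⟩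

/-- An element of odd order equal to its inverse is trivial. -/
theorem sm_eq_one_of_odd {h : G} (hodd : Odd (orderOf h)) (hinv : h⁻¹ = h) : h = 1 := by
  have h2 : h ^ 2 = 1 := by
    rw [pow_two]
    nth_rewrite 1 [← hinv]
    exact inv_mul_cancel h
  have hd : orderOf h ∣ 2 := orderOf_dvd_of_pow_eq_one h2
  have h1 : orderOf h = 1 := by
    rcases (Nat.dvd_prime Nat.prime_two).1 hd with h1 | h1
    · exact h1
    · rw [h1] at hodd; exact absurd hodd (by decide)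
  exact orderOf_eq_one_iff.1 h1

/-- An element of odd order inverted by an element commuting with it is trivial. -/
theorem sm_eq_one_of_inv_comm {h v : G} (hodd : Odd (orderOf h)) (hinv : v * h * v⁻¹ = h⁻¹)
    (hc : v * h = h * v) : h = 1 := by
  apply sm_eq_one_of_odd hodd
  rw [← hinv, hc, mul_inv_cancel_right]

/-- An element of odd order lies in every subgroup containing its square. -/
theorem sm_mem_of_sq_mem {h : G} (hodd : Odd (orderOf h)) (K : Subgroup G) (h2 : h * h ∈ K) :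
    h ∈ K := by
  have hcop : (2 : ℕ).Coprime (orderOf h) := hodd.coprime_two_left
  obtain ⟨k, hk⟩ := exists_pow_eq_self_of_coprime hcop
  rw [← hk, pow_two]
  exact K.pow_mem h2 k

theorem sm_card_lt_of_ne_top [Finite G] {C : Subgroup G} (hC : C ≠ ⊤) :
    Nat.card C < Nat.card G :=
  lt_of_le_of_ne (Subgroup.card_le_card_group C) (fun h => hC ((Subgroup.card_eq_iff_eq_top C).1 h))

theorem sm_card_quot_lt [Finite G] (K : Subgroup G) [K.Normal] (hK : K ≠ ⊥) :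
    Nat.card (G ⧸ K) < Nat.card G := by
  have h1 : Nat.card K * K.index = Nat.card G := Subgroup.card_mul_index K
  have h2 : 1 < Nat.card K := K.one_lt_card_iff_ne_bot.2 hK
  have h3 : 0 < K.index := Nat.pos_of_ne_zero K.index_ne_zero_of_finite
  rw [← Subgroup.index_eq_card]
  nlinarith

/-- `O₂(G / O₂(G)) = 1`. -/
theorem sm_pCore_quot_eq_bot (K : Subgroup G) [K.Normal] (hK : K = pCore 2 G) :
    pCore 2 (G ⧸ K) = ⊥ := by
  have hQ : IsPGroup 2 (pCore 2 (G ⧸ K)) := H13.pCore_isPGroup 2 _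
  have hQn : (pCore 2 (G ⧸ K)).Normal := H13.pCore_normal 2 _
  have hKp : IsPGroup 2 K := hK ▸ H13.pCore_isPGroup 2 G
  have h1 : IsPGroup 2 ((pCore 2 (G ⧸ K)).comap (QuotientGroup.mk' K)) :=
    hQ.comap_of_ker_isPGroup _ (by rw [QuotientGroup.ker_mk']; exact hKp)
  have h2 : (pCore 2 (G ⧸ K)).comap (QuotientGroup.mk' K) ≤ K := by
    exact (H13.le_pCore (hQn.comap _) h1).trans hK.ge
  rw [eq_bot_iff]
  intro x hx
  obtain ⟨g, rfl⟩ := QuotientGroup.mk'_surjective K x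
  have : g ∈ K := h2 hx
  rw [Subgroup.mem_bot]; exact (QuotientGroup.eq_one_iff g).2 this

end basics

section core

variable {G : Type u} [Group G]

/-- A subnormal `2`-subgroup lies in `O₂(G)`. -/
theorem sm_le_pCore_of_subnormal [Finite G] {D : Subgroup G} (hD : D.IsSubnormal)
    (hp : IsPGroup 2 D) : D ≤ pCore 2 G := by
  have : Fact (Nat.Prime 2) := ⟨Nat.prime_two⟩
  exact H27.le_rad_of_subnormal (H27.isoInv_pGroup 2) (H27.radClosed_pGroup 2) hD hp

/-- Baer–Suzuki consequence: if `O₂(G) = 1`, an involution `v` inverts a nontrivial element of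
odd order of the form `v · v^g`. -/
theorem sm_bs [Finite G] (hO : pCore 2 G = ⊥) {v : G} (hv2 : v * v = 1) (hv1 : v ≠ 1) :
    ∃ g : G, Odd (orderOf (v * (g * v * g⁻¹))) ∧ v * (g * v * g⁻¹) ≠ 1 ∧
      v * (v * (g * v * g⁻¹)) * v⁻¹ = (v * (g * v * g⁻¹))⁻¹ := by
  obtain ⟨d, ⟨g, rfl⟩, hne, j, hj⟩ :=
    S3195.exists_odd_conj hv2 hv1 (by rw [hO, Subgroup.mem_bot]; exact hv1)
  have hd2 : g * v * g⁻¹ * (g * v * g⁻¹) = 1 := by
    calc g * v * g⁻¹ * (g * v * g⁻¹) = g * (v * v) * g⁻¹ := by group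
      _ = 1 := by rw [hv2, mul_one, mul_inv_cancel]
  refine ⟨g, ?_, ?_, S3195.conj_rho hv2 hd2⟩
  · exact Odd.of_dvd_nat ⟨j, rfl⟩ (orderOf_dvd_of_pow_eq_one hj)
  · intro h1
    apply hne
    have hd : g * v * g⁻¹ = v := by
      have : g * v * g⁻¹ = v⁻¹ := (inv_eq_of_mul_eq_one_right h1).symm
      rw [this, S3195.inv_of_sq hv2]
    rw [hd]

/-- If `O₂(G) = 1`, then `O₂(H)` centralizes every subnormal subgroup of `G` which is a normal
subgroup of `H`. -/
theorem sm_centralizes [Finite G] (hO : pCore 2 G = ⊥) (N H : Subgroup G) (hN : N.IsSubnormal)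
    (hNH : N ≤ H) (hHN : H ≤ Subgroup.normalizer (N : Set G)) (u : H) (hu : u ∈ pCore 2 H) :
    ∀ n ∈ N, n * (u : G) = (u : G) * n := by
  intro n hn
  set D : Subgroup G := (pCore 2 H).map H.subtype ⊓ N with hD
  have hPn : (pCore 2 H).Normal := H13.pCore_normal 2 H
  have hDp : IsPGroup 2 D :=
    ((H13.pCore_isPGroup 2 H).map H.subtype).to_le inf_le_left
  have hnorm : N ≤ Subgroup.normalizer (D : Set G) := by
    apply H11.le_normalizer_of_conj_mem
    rintro m hm x ⟨⟨y, hy, rfl⟩, hxN⟩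
    refine ⟨⟨⟨m, hNH hm⟩ * y * ⟨m, hNH hm⟩⁻¹, hPn.conj_mem y hy _, rfl⟩, ?_⟩
    exact N.mul_mem (N.mul_mem hm hxN) (N.inv_mem hm)
  have hDsub : D.IsSubnormal :=
    Subgroup.IsSubnormal.step D N inf_le_right hN
      ((Subgroup.normal_subgroupOf_iff_le_normalizer inf_le_right).2 hnorm)
  have hD0 : D = ⊥ := by
    rw [eq_bot_iff, ← hO]; exact sm_le_pCore_of_subnormal hDsub hDp
  have hc : n * (u : G) * n⁻¹ * (u : G)⁻¹ ∈ D := by
    refine ⟨⟨⟨n, hNH hn⟩ * u * ⟨n, hNH hn⟩⁻¹ * u⁻¹, ?_, rfl⟩, ?_⟩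
    · exact (pCore 2 H).mul_mem (hPn.conj_mem u hu _) ((pCore 2 H).inv_mem hu)
    · have h1 : (u : G) * n⁻¹ * (u : G)⁻¹ ∈ N :=
        H11.conj_mem_of_mem_normalizer (hHN u.2) (N.inv_mem hn)
      have h2 : n * (u : G) * n⁻¹ * (u : G)⁻¹ = n * ((u : G) * n⁻¹ * (u : G)⁻¹) := by group
      rw [h2]; exact N.mul_mem hn h1
  rw [hD0, Subgroup.mem_bot] at hc
  have h3 : n * (u : G) = n * (u : G) * n⁻¹ * (u : G)⁻¹ * ((u : G) * n) := by group
  rw [h3, hc, one_mul]

end core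

end Cfsg.Agent.H56
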