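import Mathlib
import Cfsg.Agent.H56.SidkiMinA

set_option autoImplicit false

/-!
# Minimal counterexample to the Sidki pair problem, part B (helper56)

The hypothesis bundle `SMHyp V` (with `O₂(G) = 1` already established) and its first
consequences: for every nontrivial normal subgroup `N`, `C_V(N) = 1` and `G = V N`; there is no
nontrivial solvable normal subgroup.
-/

namespace Cfsg.Agent.H56

open Cfsg
open scoped commutatorElement

universe u

variable {G : Type u} [Group G]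

/-- The hypotheses of the minimal counterexample of S3048, with `O₂(G) = 1`. -/
def SMHyp [Finite G] (V : Subgroup G) : Prop :=
  IsElementaryAbelian 2 V ∧ V ≠ ⊥ ∧ IsSidkiPair V ∧ pCore 2 G = ⊥ ∧
  (∀ (H : Type u) [Group H] [Finite H] (W : Subgroup H), Nat.card H < Nat.card G →
      IsElementaryAbelian 2 W → W ≠ ⊥ → IsSidkiPair W → W ⊓ pCore 2 H ≠ ⊥) ∧
  (∀ W : Subgroup G, Nat.card W < Nat.card V → IsElementaryAbelian 2 W → W ≠ ⊥ →
      IsSidkiPair W → W ⊓ pCore 2 G ≠ ⊥)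

theorem sm_map_ne_bot {V N : Subgroup G} [N.Normal] (hV1 : V ≠ ⊥) (hVN : V ⊓ N = ⊥) :
    V.map (QuotientGroup.mk' N) ≠ ⊥ := by
  intro hbot
  obtain ⟨v, hv, hv1⟩ := sm_exists_of_ne_bot hV1
  have h1 : QuotientGroup.mk' N v ∈ V.map (QuotientGroup.mk' N) := Subgroup.mem_map_of_mem _ hv
  rw [hbot, Subgroup.mem_bot] at h1
  have hvN : v ∈ N := (QuotientGroup.eq_one_iff v).1 h1
  have h2 : v ∈ V ⊓ N := ⟨hv, hvN⟩
  rw [hVN, Subgroup.mem_bot] at h2
  exact hv1 h2

/-- Step 1: in a minimal counterexample `O₂(G) = 1`. -/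
theorem smHyp_of_min [Finite G] (V : Subgroup G) (hV : IsElementaryAbelian 2 V) (hV1 : V ≠ ⊥)
    (hS : IsSidkiPair V) (hVO : V ⊓ pCore 2 G = ⊥)
    (hminG : ∀ (H : Type u) [Group H] [Finite H] (W : Subgroup H), Nat.card H < Nat.card G →
      IsElementaryAbelian 2 W → W ≠ ⊥ → IsSidkiPair W → W ⊓ pCore 2 H ≠ ⊥)
    (hminV : ∀ W : Subgroup G, Nat.card W < Nat.card V → IsElementaryAbelian 2 W → W ≠ ⊥ →
      IsSidkiPair W → W ⊓ pCore 2 G ≠ ⊥) : SMHyp V := by
  refine ⟨hV, hV1, hS, ?_, hminG, hminV⟩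
  by_contra hne
  have hKn : (pCore 2 G).Normal := H13.pCore_normal 2 G
  have hS' := S3012.result V (pCore 2 G) hV hV1 hS hVO
  have hmin := hminG (G ⧸ pCore 2 G) _ (sm_card_quot_lt _ hne) (sm_elemAb_map hV _)
    (sm_map_ne_bot hV1 hVO) hS'
  rw [sm_pCore_quot_eq_bot _ rfl, inf_bot_eq] at hmin
  exact hmin rfl

/-- Step 2: `C_V(N)` is a Sidki pair when nontrivial. -/
theorem SMHyp.cent_sidki [Finite G] {V : Subgroup G} (h : SMHyp V) (N : Subgroup G)
    [hN : N.Normal] (hW : V ⊓ Subgroup.centralizer (N : Set G) ≠ ⊥) :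
    IsSidkiPair (V ⊓ Subgroup.centralizer (N : Set G)) := by
  obtain ⟨hV, hV1, hS, hO, hminG, hminV⟩ := h
  intro x w hw hodd hinv
  by_cases hx1 : x = 1
  · obtain ⟨u, hu, hu1⟩ := sm_exists_of_ne_bot hW
    exact ⟨u, hu, hu1, by rw [hx1, mul_one, one_mul]⟩
  have hwV : w ∈ V := hw.1
  have hwN : w ∈ Subgroup.centralizer (N : Set G) := hw.2
  have hCn : (Subgroup.centralizer (N : Set G)).Normal := inferInstance
  have hxN : x ∈ Subgroup.centralizer (N : Set G) := by
    apply sm_mem_of_sq_mem hodd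
    have e : x * x = (w * (x * w⁻¹ * x⁻¹))⁻¹ := by
      have : w * (x * w⁻¹ * x⁻¹) = (w * x * w⁻¹) * x⁻¹ := by group
      rw [this, hinv, mul_inv_rev, inv_inv]
    rw [e]
    exact inv_mem (mul_mem hwN (hCn.conj_mem _ (inv_mem hwN) x))
  set C : Subgroup G := Subgroup.centralizer ({w} : Set G) ⊓ Subgroup.centralizer ({x} : Set G)
    with hC
  obtain ⟨hCV, hCS⟩ := S3013.result V hV hV1 hS w x hwV hodd hinv C rfl
  have hNC : N ≤ C := by
    intro n hn
    exact ⟨Subgroup.mem_centralizer_singleton_iff.2 (Subgroup.mem_centralizer_iff.1 hwN n hn),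
      Subgroup.mem_centralizer_singleton_iff.2 (Subgroup.mem_centralizer_iff.1 hxN n hn)⟩
  have hCne : C ≠ ⊤ := by
    intro htop
    have hxC : x ∈ C := htop ▸ Subgroup.mem_top x
    have hxw : x * w = w * x := Subgroup.mem_centralizer_singleton_iff.1 hxC.1
    exact hx1 (sm_eq_one_of_inv_comm hodd hinv hxw.symm)
  have hW' : (C ⊓ V).subgroupOf C ≠ ⊥ := by
    intro hbot
    rw [Subgroup.subgroupOf_eq_bot] at hbot
    exact hCV (disjoint_self.1 (hbot.mono_right inf_le_left))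
  have hmin := hminG C ((C ⊓ V).subgroupOf C) (sm_card_lt_of_ne_top hCne)
    (sm_elemAb_subgroupOf (sm_elemAb_of_le hV inf_le_right) C) hW' hCS
  obtain ⟨u, huW, huO, hu1⟩ := sm_exists_of_inf_ne_bot hmin
  have hucent := sm_centralizes hO N C hN.isSubnormal hNC
    (by rw [Subgroup.normalizer_eq_top]; exact le_top) u huO
  have huV : (u : G) ∈ V := (Subgroup.mem_subgroupOf.1 huW).2
  refine ⟨(u : G), ⟨huV, Subgroup.mem_centralizer_iff.2 hucent⟩,
    fun h1 => hu1 (Subtype.ext h1), ?_⟩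
  exact Subgroup.mem_centralizer_singleton_iff.1 u.2.2

/-- `C_V(N)` is trivial or all of `V`. -/
theorem SMHyp.cent_dichotomy [Finite G] {V : Subgroup G} (h : SMHyp V) (N : Subgroup G)
    [N.Normal] :
    V ⊓ Subgroup.centralizer (N : Set G) = ⊥ ∨ V ≤ Subgroup.centralizer (N : Set G) := by
  by_cases hW : V ⊓ Subgroup.centralizer (N : Set G) = ⊥
  · exact Or.inl hW
  right
  have hS' := h.cent_sidki N hW
  obtain ⟨hV, hV1, hS, hO, hminG, hminV⟩ := h
  have hcard : ¬ Nat.card ↥(V ⊓ Subgroup.centralizer (N : Set G)) < Nat.card V := by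
    intro hlt
    have := hminV _ hlt (sm_elemAb_of_le hV inf_le_left) hW hS'
    rw [hO, inf_bot_eq] at this
    exact this rfl
  have : V ⊓ Subgroup.centralizer (N : Set G) = V :=
    Subgroup.eq_of_le_of_card_ge inf_le_left (not_lt.1 hcard)
  rw [← this]; exact inf_le_right

/-- Step 3: `V` does not centralize a nontrivial normal subgroup. -/
theorem SMHyp.not_le_cent [Finite G] {V : Subgroup G} (h : SMHyp V) (N : Subgroup G)
    [hN : N.Normal] (hN1 : N ≠ ⊥) : ¬ V ≤ Subgroup.centralizer (N : Set G) := by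
  obtain ⟨hV, hV1, hS, hO, hminG, hminV⟩ := h
  intro hVN
  have key : ∀ v ∈ V, v ≠ 1 → ∀ g : G, Odd (orderOf (v * (g * v * g⁻¹))) →
      v * (g * v * g⁻¹) ≠ 1 →
      v * (v * (g * v * g⁻¹)) * v⁻¹ = (v * (g * v * g⁻¹))⁻¹ → v * (g * v * g⁻¹) ∉ N := by
    intro v hv hv1 g hodd hne hinv hmem
    apply hne
    apply sm_eq_one_of_inv_comm hodd hinv
    exact (Subgroup.mem_centralizer_iff.1 (hVN hv) _ hmem).symm
  have hVN0 : V ⊓ N = ⊥ := by
    by_contra hne
    obtain ⟨v, hvV, hvN, hv1⟩ := sm_exists_of_inf_ne_bot hne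
    obtain ⟨g, hodd, hne1, hinv⟩ := sm_bs hO (sm_sq hV hvV) hv1
    exact key v hvV hv1 g hodd hne1 hinv (N.mul_mem hvN (hN.conj_mem v hvN g))
  have hS' := S3012.result V N hV hV1 hS hVN0
  have hmin := hminG (G ⧸ N) (V.map (QuotientGroup.mk' N)) (sm_card_quot_lt N hN1)
    (sm_elemAb_map hV _) (sm_map_ne_bot hV1 hVN0) hS'
  obtain ⟨y, ⟨v, hv, rfl⟩, hyO, hy1⟩ := sm_exists_of_inf_ne_bot hmin
  have hv1 : v ≠ 1 := by rintro rfl; exact hy1 (map_one _)
  obtain ⟨g, hodd, hne1, hinv⟩ := sm_bs hO (sm_sq hV hv) hv1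
  apply key v hv hv1 g hodd hne1 hinv
  set x := v * (g * v * g⁻¹) with hx
  have hPn : (pCore 2 (G ⧸ N)).Normal := H13.pCore_normal 2 _
  have hxO : QuotientGroup.mk' N x ∈ pCore 2 (G ⧸ N) := by
    rw [hx, map_mul, map_mul, map_mul, map_inv]
    exact mul_mem hyO (hPn.conj_mem _ hyO _)
  have hP : IsPGroup 2 (pCore 2 (G ⧸ N)) := H13.pCore_isPGroup 2 _
  obtain ⟨k, hk⟩ := hP ⟨_, hxO⟩
  have hk' : (QuotientGroup.mk' N x) ^ 2 ^ k = 1 := by
    have := congrArg Subtype.val hk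
    simpa using this
  have hd1 : orderOf (QuotientGroup.mk' N x) ∣ 2 ^ k := orderOf_dvd_of_pow_eq_one hk'
  have hd2 : orderOf (QuotientGroup.mk' N x) ∣ orderOf x := orderOf_map_dvd _ x
  have hcop : (2 ^ k).Coprime (orderOf x) := Nat.Coprime.pow_left _ hodd.coprime_two_left
  have h1 : orderOf (QuotientGroup.mk' N x) = 1 :=
    (Nat.Coprime.coprime_dvd_left hd1 hcop).eq_one_of_dvd hd2
  exact (QuotientGroup.eq_one_iff x).1 (orderOf_eq_one_iff.1 h1)

/-- `C_V(N) = 1` for every nontrivial normal subgroup `N`. -/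
theorem SMHyp.star [Finite G] {V : Subgroup G} (h : SMHyp V) (N : Subgroup G) [N.Normal]
    (hN1 : N ≠ ⊥) : V ⊓ Subgroup.centralizer (N : Set G) = ⊥ :=
  (h.cent_dichotomy N).resolve_right (h.not_le_cent N hN1)

/-- A normal subgroup centralized by a nontrivial element of `V` is trivial. -/
theorem SMHyp.star' [Finite G] {V : Subgroup G} (h : SMHyp V) (N : Subgroup G) [N.Normal]
    {u : G} (hu : u ∈ V) (hu1 : u ≠ 1) (hc : ∀ n ∈ N, n * u = u * n) : N = ⊥ := by
  by_contra hN1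
  have : u ∈ V ⊓ Subgroup.centralizer (N : Set G) := ⟨hu, Subgroup.mem_centralizer_iff.2 hc⟩
  rw [h.star N hN1, Subgroup.mem_bot] at this
  exact hu1 this

/-- Step 4: `G = V N` for every nontrivial normal subgroup `N`. -/
theorem SMHyp.sup_eq_top [Finite G] {V : Subgroup G} (h : SMHyp V) (N : Subgroup G)
    [hN : N.Normal] (hN1 : N ≠ ⊥) : V ⊔ N = ⊤ := by
  by_contra hne
  have hstar := h.star N hN1
  obtain ⟨hV, hV1, hS, hO, hminG, hminV⟩ := h
  set H := V ⊔ N with hH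
  have hSW : IsSidkiPair (V.subgroupOf H) := by
    intro x v hv hodd hinv
    obtain ⟨w, hw, hw1, hwc⟩ := hS (x : G) (v : G) (Subgroup.mem_subgroupOf.1 hv)
      (by rwa [Subgroup.orderOf_coe]) (by exact_mod_cast congrArg Subtype.val hinv)
    exact ⟨⟨w, (le_sup_left : V ≤ H) hw⟩, Subgroup.mem_subgroupOf.2 hw,
      fun h1 => hw1 (congrArg Subtype.val h1), Subtype.ext hwc⟩
  have hWne : V.subgroupOf H ≠ ⊥ := by
    intro hbot
    rw [Subgroup.subgroupOf_eq_bot] at hbot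
    exact hV1 (disjoint_self.1 (hbot.mono_right le_sup_left))
  have hmin := hminG H (V.subgroupOf H) (sm_card_lt_of_ne_top hne) (sm_elemAb_subgroupOf hV H)
    hWne hSW
  obtain ⟨u, huW, huO, hu1⟩ := sm_exists_of_inf_ne_bot hmin
  have hucent := sm_centralizes hO N H hN.isSubnormal le_sup_right
    (by rw [Subgroup.normalizer_eq_top]; exact le_top) u huO
  have : (u : G) ∈ V ⊓ Subgroup.centralizer (N : Set G) :=
    ⟨Subgroup.mem_subgroupOf.1 huW, Subgroup.mem_centralizer_iff.2 hucent⟩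
  rw [hstar, Subgroup.mem_bot] at this
  exact hu1 (Subtype.ext this)

/-- Step 5: there is no nontrivial abelian normal subgroup. -/
theorem SMHyp.abelian_eq_bot [Finite G] {V : Subgroup G} (h : SMHyp V) (A : Subgroup G)
    [hA : A.Normal] (hab : ∀ a ∈ A, ∀ b ∈ A, a * b = b * a) : A = ⊥ := by
  by_contra hA1
  have hsup := h.sup_eq_top A hA1
  have hV := h.1
  have hV1 := h.2.1
  have hS := h.2.2.1
  have hO := h.2.2.2.1
  obtain ⟨v, hv, hv1⟩ := sm_exists_of_ne_bot hV1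
  obtain ⟨g, hodd, hne1, hinv⟩ := sm_bs hO (sm_sq hV hv) hv1
  have hg : g ∈ A ⊔ V := by rw [sup_comm, hsup]; exact Subgroup.mem_top g
  obtain ⟨a, ha, x, hx, rfl⟩ := Subgroup.mem_sup_of_normal_left.1 hg
  have hxv : x * v = v * x := S3013.comm_of_mem hV.1 hx hv
  have hgv : a * x * v * (a * x)⁻¹ = a * v * a⁻¹ := by
    calc a * x * v * (a * x)⁻¹ = a * (x * v) * x⁻¹ * a⁻¹ := by group
      _ = a * (v * x) * x⁻¹ * a⁻¹ := by rw [hxv]
      _ = a * v * a⁻¹ := by group
  rw [hgv] at hodd hne1 hinv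
  have hmemA : v * (a * v * a⁻¹) ∈ A := by
    have e : v * (a * v * a⁻¹) = (v * a * v⁻¹) * a⁻¹ := by rw [sm_inv hV hv]; group
    rw [e]; exact A.mul_mem (hA.conj_mem a ha v) (A.inv_mem ha)
  obtain ⟨w, hw, hw1, hwc⟩ := hS _ v hv hodd hinv
  set B : Subgroup G := A ⊓ Subgroup.centralizer ({w} : Set G) with hB
  have hBn : B.Normal := by
    constructor
    rintro b ⟨hbA, hbw⟩ g'
    have hg' : g' ∈ V ⊔ A := by rw [hsup]; exact Subgroup.mem_top g'
    obtain ⟨x', hx', a', ha', rfl⟩ := Subgroup.mem_sup_of_normal_right.1 hg'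
    have hbw' : b * w = w * b := Subgroup.mem_centralizer_singleton_iff.1 hbw
    have hab' : a' * b * a'⁻¹ = b := by rw [hab a' ha' b hbA, mul_inv_cancel_right]
    have hxw : x' * w = w * x' := S3013.comm_of_mem hV.1 hx' hw
    have e : x' * a' * b * (x' * a')⁻¹ = x' * b * x'⁻¹ := by
      calc x' * a' * b * (x' * a')⁻¹ = x' * (a' * b * a'⁻¹) * x'⁻¹ := by group
        _ = x' * b * x'⁻¹ := by rw [hab']
    rw [e]
    refine ⟨hA.conj_mem b hbA x', Subgroup.mem_centralizer_singleton_iff.2 ?_⟩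
    have hxw' : x'⁻¹ * w = w * x'⁻¹ := by rw [sm_inv hV hx']; exact hxw
    calc x' * b * x'⁻¹ * w = x' * b * (x'⁻¹ * w) := by group
      _ = x' * (b * w) * x'⁻¹ := by rw [hxw']; group
      _ = (x' * w) * b * x'⁻¹ := by rw [hbw']; group
      _ = w * (x' * b * x'⁻¹) := by rw [hxw]; group
  have hmemB : v * (a * v * a⁻¹) ∈ B :=
    ⟨hmemA, Subgroup.mem_centralizer_singleton_iff.2 hwc.symm⟩
  have hB0 : B = ⊥ :=
    h.star' B hw hw1 (fun n hn => Subgroup.mem_centralizer_singleton_iff.1 hn.2)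
  rw [hB0, Subgroup.mem_bot] at hmemB
  exact hne1 hmemB

/-- There is no nontrivial solvable normal subgroup. -/
theorem SMHyp.solvable_eq_bot [Finite G] {V : Subgroup G} (h : SMHyp V) (N : Subgroup G)
    [hN : N.Normal] (hsolv : Group.IsSolvable N) : N = ⊥ := by
  obtain ⟨k, hk⟩ := H27.dSer_eq_bot_of_solvable N hsolv
  have key : ∀ n, H27.dSer N n = ⊥ → H27.dSer N 0 = ⊥ := by
    intro n
    induction n with
    | zero => exact id
    | succ n ih =>
      intro hn
      apply ih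
      have hnorm : (H27.dSer N n).Normal := by
        rw [← Subgroup.normalizer_eq_top_iff, eq_top_iff]
        calc ⊤ = Subgroup.normalizer (N : Set G) := (Subgroup.normalizer_eq_top_iff.2 hN).symm
          _ ≤ _ := H27.normalizer_le_normalizer_dSer N n
      apply h.abelian_eq_bot
      intro a ha b hb
      have hc : ⁅a, b⁆ ∈ H27.dSer N (n + 1) := Subgroup.commutator_mem_commutator ha hb
      rw [hn, Subgroup.mem_bot] at hc
      exact commutatorElement_eq_one_iff_mul_comm.1 hc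
  exact key k hk

theorem SMHyp.fitting_eq_bot [Finite G] {V : Subgroup G} (h : SMHyp V) :
    fittingSubgroup G = ⊥ :=
  h.solvable_eq_bot _ H27.fitting_solvable

end Cfsg.Agent.H56
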