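import Mathlib
import Cfsg.Agent.H56.SidkiMinB
import Cfsg.Agent.H66.MinNormal
import Cfsg.Agent.H28.FStar

set_option autoImplicit false

/-!
# Minimal counterexample to the Sidki pair problem, part C (helper56)

Components: in a minimal counterexample `F*(G)` is a nonabelian simple group and `G = V F*(G)`.
-/

namespace Cfsg.Agent.H56

open Cfsg
open scoped commutatorElement Pointwise

universe u

variable {G : Type u} [Group G]

theorem SMHyp.genFitting_eq_layer [Finite G] {V : Subgroup G} (h : SMHyp V) :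
    generalizedFittingSubgroup G = layer G := by
  unfold generalizedFittingSubgroup; rw [h.fitting_eq_bot, sup_bot_eq]

theorem SMHyp.layer_ne_bot [Finite G] {V : Subgroup G} (h : SMHyp V) : layer G ≠ ⊥ := by
  intro hbot
  have hc := H27.centralizer_genFitting_le (G := G)
  rw [h.genFitting_eq_layer, hbot] at hc
  have h1 : (⊤ : Subgroup G) ≤ ⊥ := by
    intro g _
    apply hc
    rw [Subgroup.mem_centralizer_iff]
    intro x hx
    have hx1 : x = 1 := by simpa using hx
    rw [hx1, one_mul, mul_one]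
  exact h.2.1 (le_bot_iff.1 (le_top.trans h1))

/-- Components have trivial centre. -/
theorem SMHyp.comp_center [Finite G] {V : Subgroup G} (h : SMHyp V) {L : Subgroup G}
    (hL : IsComponent L) : ∀ l ∈ L, (∀ k ∈ L, k * l = l * k) → l = 1 := by
  intro l hl hc
  set A : Subgroup G := layer G ⊓ Subgroup.centralizer (layer G : Set G) with hA
  have hEn : (layer G).Normal := H27.layer_normal G
  have hCn : (Subgroup.centralizer (layer G : Set G)).Normal := inferInstance
  have hAn : A.Normal :=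
    ⟨fun a ha g => ⟨hEn.conj_mem a ha.1 g, hCn.conj_mem a ha.2 g⟩⟩
  have hA0 : A = ⊥ :=
    h.abelian_eq_bot A (fun a ha b hb => (Subgroup.mem_centralizer_iff.1 hb.2 a ha.1))
  have hlA : l ∈ A := H27.center_component_le hL ⟨hl, Subgroup.mem_centralizer_iff.2 hc⟩
  rw [hA0, Subgroup.mem_bot] at hlA
  exact hlA

/-- A component commutes with its conjugates other than itself. -/
theorem sm_comp_conj_comm {L : Subgroup G} (hL : IsComponent L) {g : G}
    (hg : g ∉ Subgroup.normalizer (L : Set G)) :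
    ∀ x ∈ L, ∀ y ∈ L, x * (g * y * g⁻¹) = (g * y * g⁻¹) * x := by
  intro x hx y hy
  have hL' : IsComponent (MulAut.conj g • L) := H66.isComponent_conj_smul hL g
  have hne : L ≠ MulAut.conj g • L := by
    intro heq
    apply hg
    rw [Subgroup.mem_normalizer_iff]
    intro z
    constructor
    · intro hz
      have := H1.conj_mem_conj_smul g z L hz
      rw [← heq] at this
      exact this
    · intro hz
      rw [heq, H1.mem_conj_smul_iff] at hz
      have e : g⁻¹ * (g * z * g⁻¹) * g = z := by group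
      rw [e] at hz
      exact hz
  exact H27.comm_of_comm_eq_bot (H27.components_commute hL hL' hne) hx
    (H1.conj_mem_conj_smul g y L hy)

/-- If some element of `V` moves the component `L`, every nontrivial element of odd order of
`L` is centralized by a nontrivial element of `N_V(L)`. -/
theorem SMHyp.comp_odd_cent [Finite G] {V : Subgroup G} (h : SMHyp V) {L : Subgroup G}
    (hL : IsComponent L) {v : G} (hv : v ∈ V) (hvL : v ∉ Subgroup.normalizer (L : Set G))
    {s : G} (hs : s ∈ L) (hodd : Odd (orderOf s)) (hs1 : s ≠ 1) :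
    ∃ w ∈ V, w ≠ 1 ∧ w ∈ Subgroup.normalizer (L : Set G) ∧ w * s = s * w := by
  have hV := h.1
  have hS := h.2.2.1
  have hZ := h.comp_center hL
  have hcomm : ∀ g : G, g ∉ Subgroup.normalizer (L : Set G) → ∀ x ∈ L, ∀ y ∈ L,
      x * (g * y * g⁻¹) = (g * y * g⁻¹) * x := fun g hg => sm_comp_conj_comm hL hg
  have hnorm : ∀ w : G, w * s = s * w → w ∈ Subgroup.normalizer (L : Set G) := by
    intro w hw
    by_contra hwL
    apply hs1
    apply hZ s hs
    intro k hk
    have h1 := hcomm w hwL k hk s hs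
    have e : w * s * w⁻¹ = s := by rw [hw, mul_inv_cancel_right]
    rw [e] at h1
    exact h1
  have hv2 : v * v = 1 := sm_sq hV hv
  have hvi : v⁻¹ = v := sm_inv hV hv
  set t := v * s * v⁻¹ with ht
  have hst : ∀ x ∈ L, x * t = t * x := fun x hx => hcomm v hvL x hx s hs
  have hinv : v * (s⁻¹ * t) * v⁻¹ = (s⁻¹ * t)⁻¹ := by
    rw [ht, hvi]
    have e1 : (s⁻¹ * (v * s * v))⁻¹ = v⁻¹ * s⁻¹ * v⁻¹ * s := by group
    rw [e1, hvi]
    calc v * (s⁻¹ * (v * s * v)) * v = v * s⁻¹ * v * s * (v * v) := by group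
      _ = v * s⁻¹ * v * s := by rw [hv2, mul_one]
  have hodd' : Odd (orderOf (s⁻¹ * t)) := by
    have hcomm_st : Commute s⁻¹ t := hst s⁻¹ (L.inv_mem hs)
    have hpow : (s⁻¹ * t) ^ orderOf s = 1 := by
      rw [hcomm_st.mul_pow, inv_pow, pow_orderOf_eq_one, inv_one, one_mul, ht, conj_pow,
        pow_orderOf_eq_one, mul_one, mul_inv_cancel]
    exact Odd.of_dvd_nat hodd (orderOf_dvd_of_pow_eq_one hpow)
  obtain ⟨w, hw, hw1, hwc⟩ := hS _ v hv hodd' hinv
  have hab : (w * s⁻¹ * w⁻¹) * (w * t * w⁻¹) = s⁻¹ * t := by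
    calc (w * s⁻¹ * w⁻¹) * (w * t * w⁻¹) = w * (s⁻¹ * t) * w⁻¹ := by group
      _ = s⁻¹ * t := by rw [hwc, mul_inv_cancel_right]
  have hb : w * t * w⁻¹ = (w * v) * s * (w * v)⁻¹ := by rw [ht]; group
  by_cases hwL : w ∈ Subgroup.normalizer (L : Set G)
  · refine ⟨w, hw, hw1, hwL, ?_⟩
    have haL : w * s⁻¹ * w⁻¹ ∈ L := H11.conj_mem_of_mem_normalizer hwL (L.inv_mem hs)
    have hwvL : w * v ∉ Subgroup.normalizer (L : Set G) := by
      intro hcon
      apply hvL
      have := (Subgroup.normalizer (L : Set G)).mul_mem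
        ((Subgroup.normalizer (L : Set G)).inv_mem hwL) hcon
      rwa [inv_mul_cancel_left] at this
    have hbc : ∀ x ∈ L, x * (w * t * w⁻¹) = (w * t * w⁻¹) * x := by
      intro x hx; rw [hb]; exact hcomm (w * v) hwvL x hx s hs
    have e : s * (w * s⁻¹ * w⁻¹) = t * (w * t * w⁻¹)⁻¹ := by
      calc s * (w * s⁻¹ * w⁻¹)
          = s * ((w * s⁻¹ * w⁻¹) * (w * t * w⁻¹)) * (w * t * w⁻¹)⁻¹ := by group
        _ = s * (s⁻¹ * t) * (w * t * w⁻¹)⁻¹ := by rw [hab]
        _ = t * (w * t * w⁻¹)⁻¹ := by group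
    have hsa : s * (w * s⁻¹ * w⁻¹) = 1 := by
      apply hZ _ (L.mul_mem hs haL)
      intro k hk
      rw [e]
      have c1 : Commute k t := hst k hk
      have c2 : Commute k (w * t * w⁻¹) := hbc k hk
      exact (c1.mul_right c2.inv_right).eq
    have ha : w * s⁻¹ * w⁻¹ = s⁻¹ := by
      rw [← mul_right_inj s, hsa, mul_inv_cancel]
    have c3 : Commute w s⁻¹ := mul_inv_eq_iff_eq_mul.1 ha
    exact (Commute.inv_right_iff.1 c3).eq
  · have hac : ∀ x ∈ L, x * (w * s⁻¹ * w⁻¹) = (w * s⁻¹ * w⁻¹) * x :=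
      fun x hx => hcomm w hwL x hx s⁻¹ (L.inv_mem hs)
    by_cases hwvL : w * v ∈ Subgroup.normalizer (L : Set G)
    · have hbL : w * t * w⁻¹ ∈ L := by
        rw [hb]; exact H11.conj_mem_of_mem_normalizer hwvL hs
      have e : s * (w * t * w⁻¹) = t * (w * s⁻¹ * w⁻¹)⁻¹ := by
        calc s * (w * t * w⁻¹)
            = s * ((w * t * w⁻¹) * (w * s⁻¹ * w⁻¹)) * (w * s⁻¹ * w⁻¹)⁻¹ := by group
          _ = s * ((w * s⁻¹ * w⁻¹) * (w * t * w⁻¹)) * (w * s⁻¹ * w⁻¹)⁻¹ := by
              rw [hac _ hbL]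
          _ = s * (s⁻¹ * t) * (w * s⁻¹ * w⁻¹)⁻¹ := by rw [hab]
          _ = t * (w * s⁻¹ * w⁻¹)⁻¹ := by group
      have hsb : s * (w * t * w⁻¹) = 1 := by
        apply hZ _ (L.mul_mem hs hbL)
        intro k hk
        rw [e]
        have c1 : Commute k t := hst k hk
        have c2 : Commute k (w * s⁻¹ * w⁻¹) := hac k hk
        exact (c1.mul_right c2.inv_right).eq
      have hb' : (w * v) * s * (w * v)⁻¹ = s⁻¹ := by
        rw [← hb, ← mul_right_inj s, hsb, mul_inv_cancel]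
      obtain ⟨w', hw', hw'1, hw'c⟩ := hS s (w * v) (V.mul_mem hw hv) hodd hb'
      exact ⟨w', hw', hw'1, hnorm w' hw'c, hw'c⟩
    · exfalso
      have hbc : ∀ x ∈ L, x * (w * t * w⁻¹) = (w * t * w⁻¹) * x := by
        intro x hx; rw [hb]; exact hcomm (w * v) hwvL x hx s hs
      have e : s⁻¹ = (w * s⁻¹ * w⁻¹) * (w * t * w⁻¹) * t⁻¹ := by
        calc s⁻¹ = (s⁻¹ * t) * t⁻¹ := by group
          _ = (w * s⁻¹ * w⁻¹) * (w * t * w⁻¹) * t⁻¹ := by rw [hab]
      have hs' : s⁻¹ = 1 := by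
        apply hZ _ (L.inv_mem hs)
        intro k hk
        rw [e]
        have c1 : Commute k t := hst k hk
        have c2 : Commute k (w * t * w⁻¹) := hbc k hk
        have c3 : Commute k (w * s⁻¹ * w⁻¹) := hac k hk
        exact ((c3.mul_right c2).mul_right c1.inv_right).eq
      exact hs1 (inv_eq_one.1 hs')

/-- Step 6: `V` normalizes every component. -/
theorem SMHyp.le_normalizer_comp [Finite G] {V : Subgroup G} (h : SMHyp V) {L : Subgroup G}
    (hL : IsComponent L) : V ≤ Subgroup.normalizer (L : Set G) := by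
  intro v hv
  by_contra hvL
  have hV := h.1
  have hO := h.2.2.2.1
  have hminG := h.2.2.2.2.1
  have hclaim : ∀ s ∈ L, Odd (orderOf s) → s ≠ 1 →
      ∃ w ∈ V, w ≠ 1 ∧ w ∈ Subgroup.normalizer (L : Set G) ∧ w * s = s * w :=
    fun s hs hodd hs1 => h.comp_odd_cent hL hv hvL hs hodd hs1
  set V₁ : Subgroup G := V ⊓ Subgroup.normalizer (L : Set G) with hV₁
  set H : Subgroup G := V₁ ⊔ L with hH
  have hHn : H ≤ Subgroup.normalizer (L : Set G) := sup_le inf_le_right Subgroup.le_normalizer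
  have hHne : H ≠ ⊤ := fun htop => hvL (hHn (htop ▸ Subgroup.mem_top v))
  have hoddL : ∀ x ∈ H, Odd (orderOf x) → x ∈ L := by
    intro x hx hodd
    apply sm_mem_of_sq_mem hodd
    have h1 : x ∈ ((V₁ ⊔ L : Subgroup G) : Set G) := hx
    rw [Subgroup.coe_mul_of_left_le_normalizer_right V₁ L inf_le_right] at h1
    obtain ⟨y, hy, l, hl, rfl⟩ := Set.mem_mul.1 h1
    have hy2 : y * y = 1 := sm_sq hV hy.1
    have e : y * l * (y * l) = (y * l * y⁻¹) * l := by
      calc y * l * (y * l) = (y * l * y⁻¹) * (y * y) * l := by group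
        _ = (y * l * y⁻¹) * l := by rw [hy2, mul_one]
    rw [e]
    exact L.mul_mem (H11.conj_mem_of_mem_normalizer hy.2 hl) hl
  have hexs : ∃ s ∈ L, Odd (orderOf s) ∧ s ≠ 1 := by
    by_contra hcon
    push Not at hcon
    apply H27.isComponent_not_solvable hL
    have hp : IsPGroup 2 L := by
      rintro ⟨x, hx⟩
      obtain ⟨a, ha⟩ := S3012.exists_odd_pow x
      refine ⟨a, ?_⟩
      apply Subtype.ext
      have := hcon (x ^ 2 ^ a) (L.pow_mem hx _) ha
      simpa using this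
    have hf : Fact (Nat.Prime 2) := ⟨Nat.prime_two⟩
    have hnil : Group.IsNilpotent L := hp.isNilpotent
    infer_instance
  obtain ⟨s₀, hs₀, hodd₀, hs₀1⟩ := hexs
  obtain ⟨w₀, hw₀V, hw₀1, hw₀L, hw₀c⟩ := hclaim s₀ hs₀ hodd₀ hs₀1
  have hV₁ne : V₁ ≠ ⊥ := by
    intro hbot
    have : w₀ ∈ V₁ := ⟨hw₀V, hw₀L⟩
    rw [hbot, Subgroup.mem_bot] at this
    exact hw₀1 this
  have hV₁H : V₁ ≤ H := le_sup_left
  have hSW : IsSidkiPair (V₁.subgroupOf H) := by
    intro x u hu hodd hinv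
    have hodd' : Odd (orderOf (x : G)) := by rwa [Subgroup.orderOf_coe]
    have hxL : (x : G) ∈ L := hoddL x x.2 hodd'
    by_cases hx1 : (x : G) = 1
    · refine ⟨⟨w₀, hV₁H ⟨hw₀V, hw₀L⟩⟩, Subgroup.mem_subgroupOf.2 ⟨hw₀V, hw₀L⟩,
        fun h1 => hw₀1 (congrArg Subtype.val h1), ?_⟩
      have : x = 1 := Subtype.ext hx1
      rw [this, mul_one, one_mul]
    · obtain ⟨w, hwV, hw1, hwL, hwc⟩ := hclaim (x : G) hxL hodd' hx1
      exact ⟨⟨w, hV₁H ⟨hwV, hwL⟩⟩, Subgroup.mem_subgroupOf.2 ⟨hwV, hwL⟩,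
        fun h1 => hw1 (congrArg Subtype.val h1), Subtype.ext hwc⟩
  have hWne : V₁.subgroupOf H ≠ ⊥ := by
    intro hbot
    rw [Subgroup.subgroupOf_eq_bot] at hbot
    exact hV₁ne (disjoint_self.1 (hbot.mono_right hV₁H))
  have hmin := hminG H (V₁.subgroupOf H) (sm_card_lt_of_ne_top hHne)
    (sm_elemAb_subgroupOf (sm_elemAb_of_le hV inf_le_left) H) hWne hSW
  obtain ⟨u, huW, huO, hu1⟩ := sm_exists_of_inf_ne_bot hmin
  have hucent := sm_centralizes hO L H hL.1 le_sup_right hHn u huO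
  have huV : (u : G) ∈ V := (Subgroup.mem_subgroupOf.1 huW).1
  have hu1' : (u : G) ≠ 1 := fun h1 => hu1 (Subtype.ext h1)
  set N : Subgroup G := (Subgroup.centralizer ({(u : G)} : Set G)).normalCore with hN
  have hN0 : N = ⊥ := h.star' N huV hu1'
    (fun n hn => Subgroup.mem_centralizer_singleton_iff.1 (Subgroup.normalCore_le _ hn))
  have hEn : (layer G).Normal := H27.layer_normal G
  have hsup : V ⊔ layer G = ⊤ := h.sup_eq_top (layer G) h.layer_ne_bot
  have hsN : s₀ ∈ N := by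
    show ∀ b : G, b * s₀ * b⁻¹ ∈ Subgroup.centralizer ({(u : G)} : Set G)
    intro g
    have hg : g ∈ V ⊔ layer G := hsup ▸ Subgroup.mem_top g
    obtain ⟨x, hx, e, he, rfl⟩ := Subgroup.mem_sup_of_normal_right.1 hg
    have heL : e * s₀ * e⁻¹ ∈ L :=
      H11.conj_mem_of_mem_normalizer (H28.layer_le_normalizer_subnormal hL.1 he) hs₀
    have h1 : (e * s₀ * e⁻¹) * (u : G) = (u : G) * (e * s₀ * e⁻¹) := hucent _ heL
    have hxu : x * (u : G) = (u : G) * x := S3013.comm_of_mem hV.1 hx huV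
    have hxu' : x⁻¹ * (u : G) = (u : G) * x⁻¹ := by rw [sm_inv hV hx]; exact hxu
    rw [Subgroup.mem_centralizer_singleton_iff]
    calc x * e * s₀ * (x * e)⁻¹ * (u : G) = x * (e * s₀ * e⁻¹) * (x⁻¹ * u) := by group
      _ = x * ((e * s₀ * e⁻¹) * u) * x⁻¹ := by rw [hxu']; group
      _ = (x * u) * (e * s₀ * e⁻¹) * x⁻¹ := by rw [h1]; group
      _ = u * (x * e * s₀ * (x * e)⁻¹) := by rw [hxu]; group
  rw [hN0, Subgroup.mem_bot] at hsN
  exact hs₀1 hsN

/-- **S3048**: in a minimal counterexample, `F*(G)` is nonabelian simple and `G = V F*(G)`. -/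
theorem SMHyp.final [Finite G] {V : Subgroup G} (h : SMHyp V) :
    IsSimpleGroup ↥(generalizedFittingSubgroup G) ∧
      ¬ IsMulCommutative ↥(generalizedFittingSubgroup G) ∧
      V ⊔ generalizedFittingSubgroup G = ⊤ := by
  have hgen := h.genFitting_eq_layer
  have hlne := h.layer_ne_bot
  have hEn : (layer G).Normal := H27.layer_normal G
  have hsupE : V ⊔ layer G = ⊤ := h.sup_eq_top (layer G) hlne
  obtain ⟨L, hL⟩ : ∃ L : Subgroup G, IsComponent L := by
    by_contra hcon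
    push Not at hcon
    exact hlne (H28.layer_eq_bot_iff.2 hcon)
  have hLn : L.Normal := by
    rw [← Subgroup.normalizer_eq_top_iff, eq_top_iff, ← hsupE]
    exact sup_le (h.le_normalizer_comp hL) (H28.layer_le_normalizer_subnormal hL.1)
  have hL1 : L ≠ ⊥ := H27.isComponent_ne_bot hL
  have hsupL : V ⊔ L = ⊤ := h.sup_eq_top L hL1
  have hder : ∀ a b : G, ⁅a, b⁆ ∈ L := by
    intro a b
    obtain ⟨x, hx, l, hl, rfl⟩ :=
      Subgroup.mem_sup_of_normal_right.1 (hsupL ▸ Subgroup.mem_top a : a ∈ V ⊔ L)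
    obtain ⟨y, hy, m, hm, rfl⟩ :=
      Subgroup.mem_sup_of_normal_right.1 (hsupL ▸ Subgroup.mem_top b : b ∈ V ⊔ L)
    have hl' : ((l : G) : G ⧸ L) = 1 := (QuotientGroup.eq_one_iff l).2 hl
    have hm' : ((m : G) : G ⧸ L) = 1 := (QuotientGroup.eq_one_iff m).2 hm
    have key : ((⁅x * l, y * m⁆ : G) : G ⧸ L) = ((⁅x, y⁆ : G) : G ⧸ L) := by
      simp only [commutatorElement_def, QuotientGroup.mk_mul, QuotientGroup.mk_inv, hl', hm',
        mul_one]
    have hxy : ⁅x, y⁆ = 1 :=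
      commutatorElement_eq_one_iff_mul_comm.2 (S3013.comm_of_mem h.1.1 hx hy)
    rw [← QuotientGroup.eq_one_iff, key, hxy]
    rfl
  have hle : layer G ≤ L := by
    rw [H28.layer_le_iff]
    intro K hK
    rw [← H27.isComponent_perfect hK, Subgroup.commutator_le]
    intro a _ b _
    exact hder a b
  have hEL : layer G = L := le_antisymm hle (H27.isComponent_le_layer hL)
  rw [hgen, hEL]
  refine ⟨?_, ?_, hsupL⟩
  · have hZ : Subgroup.center L = ⊥ := by
      rw [eq_bot_iff]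
      intro z hz
      rw [Subgroup.mem_bot]
      apply Subtype.ext
      apply h.comp_center hL z z.2
      intro k hk
      have := Subgroup.mem_center_iff.1 hz ⟨k, hk⟩
      exact congrArg Subtype.val this
    have hsimp : IsSimpleGroup (L ⧸ Subgroup.center L) := hL.2.2
    exact ((QuotientGroup.quotientMulEquivOfEq hZ).trans
      QuotientGroup.quotientBot).symm.isSimpleGroup
  · intro hcomm
    apply H27.isComponent_not_solvable hL
    exact Group.isSolvable_of_comm (fun a b => hcomm.is_comm.comm a b)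

end Cfsg.Agent.H56
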