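import Cfsg.Agent.H52.SrDefs

/-!
# SR-DEC (helper52's mini-project SR for S2951 / S2952), helper56

`V` normal elementary abelian 2-group, `O ≤ K`, `O ≤ C(V)`, `|K : O| = 3`.  If `K` does not centralize `V`, pick
`x ∈ K ∖ C(V)`: `K = ⟨x⟩ C_K(V)` and `x³ ∈ C(V)`.  With `φ` = conjugation by `x` on `V` and the norm
`N v = v · φ v · φ² v`: `N v` is centralized by `K`, `N v · v ∈ [V, K]`, and `N` kills `[V, K]` while being the
identity on `C_V(K)`.
-/

set_option autoImplicit false

namespace Cfsg.Agent.H56.Sr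

open Cfsg Cfsg.Agent.H52.Sr

open scoped commutatorElement

universe u

/-- Every element of `K` is a power of `x` times an element centralizing `V`, and `x ^ 3` centralizes `V`. -/
theorem dec_coset {X : Type u} [Group X] [Finite X] (V K O : Subgroup X) [V.Normal]
    (hOK : O ≤ K) (hOC : O ≤ Subgroup.centralizer (V : Set X)) (h3 : O.relIndex K = 3)
    (x : X) (hxK : x ∈ K) (hxC : x ∉ Subgroup.centralizer (V : Set X)) :
    (∀ k ∈ K, ∃ n : ℕ, ∃ c ∈ Subgroup.centralizer (V : Set X), k = x ^ n * c) ∧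
      x ^ 3 ∈ Subgroup.centralizer (V : Set X) := by
  classical
  have hp3 : Fact (Nat.Prime 3) := ⟨Nat.prime_three⟩
  have hN : ((Subgroup.centralizer (V : Set X)).subgroupOf K).Normal :=
    Subgroup.Normal.subgroupOf inferInstance K
  have hdvd : (Subgroup.centralizer (V : Set X)).relIndex K ∣ 3 := by
    rw [← h3, ← Subgroup.inf_relIndex_right (H := Subgroup.centralizer (V : Set X)) (K := K)]
    exact Subgroup.relIndex_dvd_of_le_left K (le_inf hOC hOK)
  have hne1 : (Subgroup.centralizer (V : Set X)).relIndex K ≠ 1 := by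
    rw [Ne, Subgroup.relIndex_eq_one]
    exact fun h => hxC (h hxK)
  have hidx : (Subgroup.centralizer (V : Set X)).relIndex K = 3 := by
    rcases (Nat.dvd_prime Nat.prime_three).1 hdvd with h | h
    · exact absurd h hne1
    · exact h
  have hcard : Nat.card (↥K ⧸ (Subgroup.centralizer (V : Set X)).subgroupOf K) = 3 := by
    rw [← Subgroup.index_eq_card]; exact hidx
  have hx1 : (QuotientGroup.mk (⟨x, hxK⟩ : ↥K) :
      ↥K ⧸ (Subgroup.centralizer (V : Set X)).subgroupOf K) ≠ 1 := by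
    rw [Ne, QuotientGroup.eq_one_iff, Subgroup.mem_subgroupOf]
    exact hxC
  have htop := zpowers_eq_top_of_prime_card hcard hx1
  constructor
  · intro k hk
    have hmem : (QuotientGroup.mk (⟨k, hk⟩ : ↥K) :
        ↥K ⧸ (Subgroup.centralizer (V : Set X)).subgroupOf K) ∈
        Subgroup.zpowers (QuotientGroup.mk (⟨x, hxK⟩ : ↥K) :
          ↥K ⧸ (Subgroup.centralizer (V : Set X)).subgroupOf K) := by
      rw [htop]; exact Subgroup.mem_top _
    rw [← mem_powers_iff_mem_zpowers] at hmem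
    obtain ⟨n, hn⟩ := hmem
    have h4 : ((⟨x, hxK⟩ : ↥K) ^ n)⁻¹ * ⟨k, hk⟩ ∈ (Subgroup.centralizer (V : Set X)).subgroupOf K := by
      rw [← QuotientGroup.eq, QuotientGroup.mk_pow]; exact hn
    rw [Subgroup.mem_subgroupOf] at h4
    refine ⟨n, (x ^ n)⁻¹ * k, ?_, by group⟩
    simpa using h4
  · have h5 : (QuotientGroup.mk (⟨x, hxK⟩ : ↥K) :
        ↥K ⧸ (Subgroup.centralizer (V : Set X)).subgroupOf K) ^ 3 = 1 := by
      rw [← hcard]; exact pow_card_eq_one'
    rw [← QuotientGroup.mk_pow, QuotientGroup.eq_one_iff, Subgroup.mem_subgroupOf] at h5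
    simpa using h5

/-- **SR-DEC**. -/
theorem dec : StDec.{u} := by
  intro X _ _ V K O _ hV hOK hOC h3
  have hcomm : ∀ a ∈ V, ∀ b ∈ V, a * b = b * a := fun a ha b hb =>
    congrArg Subtype.val (hV.1.is_comm.comm ⟨a, ha⟩ ⟨b, hb⟩)
  have hsq : ∀ a ∈ V, a * a = 1 := fun a ha => by rw [← pow_two]; exact hV.2 a ha
  have hinv : ∀ a ∈ V, a⁻¹ = a := fun a ha => inv_eq_of_mul_eq_one_left (hsq a ha)
  by_cases hcase : K ≤ Subgroup.centralizer (V : Set X)
  · have hVK : V ≤ Subgroup.centralizer (K : Set X) := by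
      intro v hv
      rw [Subgroup.mem_centralizer_iff]
      intro k hk
      exact ((Subgroup.mem_centralizer_iff.1 (hcase hk)) v hv).symm
    have hbot : ⁅V, K⁆ = ⊥ := Subgroup.commutator_eq_bot_iff_le_centralizer.2 hVK
    exact ⟨fun v hv => ⟨v, hv, 1, Subgroup.one_mem _, (mul_one v).symm, hVK hv⟩, by rw [hbot, bot_inf_eq]⟩
  · obtain ⟨x, hxK, hxC⟩ := SetLike.not_le_iff_exists.1 hcase
    obtain ⟨hcos, hx3⟩ := dec_coset V K O hOK hOC h3 x hxK hxC
    -- commutative-group facts in `↥V`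
    have hc : ∀ a b : ↥V, a * b = b * a := fun a b => hV.1.is_comm.comm a b
    have hlc : ∀ a b c : ↥V, a * (b * c) = b * (a * c) := fun a b c => by
      rw [← mul_assoc, hc a b, mul_assoc]
    have hs : ∀ a : ↥V, a * a = 1 := fun a => Subtype.ext (hsq a a.2)
    -- conjugation by powers of `x` on `V`
    have hφ : ∀ (g : X) (v : ↥V), ((MulAut.conjNormal g v : ↥V) : X) = g * v * g⁻¹ :=
      fun g v => MulAut.conjNormal_apply g v
    have hφ3 : ∀ v : ↥V, MulAut.conjNormal x (MulAut.conjNormal x (MulAut.conjNormal x v)) = v := by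
      intro v
      apply Subtype.ext
      rw [hφ, hφ, hφ]
      have h := (Subgroup.mem_centralizer_iff.1 hx3) v v.2
      have e3 : x ^ 3 = x * x * x := by rw [pow_succ, pow_succ, pow_one]
      have e : x * (x * (x * (v : X) * x⁻¹) * x⁻¹) * x⁻¹ = x ^ 3 * v * (x ^ 3)⁻¹ := by
        rw [e3]; group
      rw [e, ← h, mul_inv_cancel_right]
    -- the norm, a homomorphism
    obtain ⟨N, hN⟩ : ∃ N : ↥V →* ↥V, ∀ v : ↥V,
        N v = v * MulAut.conjNormal x v * MulAut.conjNormal x (MulAut.conjNormal x v) := by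
      refine ⟨MonoidHom.mk' (fun v => v * MulAut.conjNormal x v *
        MulAut.conjNormal x (MulAut.conjNormal x v)) (fun a b => ?_), fun v => rfl⟩
      simp only [map_mul, mul_assoc, hc, hlc]
    have hNφ : ∀ v : ↥V, N (MulAut.conjNormal x v) = N v := by
      intro v
      rw [hN, hN, hφ3]
      simp only [hc, hlc]
    have hφN : ∀ v : ↥V, MulAut.conjNormal x (N v) = N v := by
      intro v
      rw [hN, map_mul, map_mul, hφ3]
      simp only [hc, hlc]
    have hNpow : ∀ (n : ℕ) (v : ↥V), N (MulAut.conjNormal (x ^ n) v) = N v := by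
      intro n
      induction n with
      | zero => intro v; rw [pow_zero, map_one]; rfl
      | succ n ih =>
        intro v
        rw [pow_succ', map_mul, MulAut.mul_apply, hNφ, ih]
    constructor
    · intro v hv
      have hcV : ((N ⟨v, hv⟩ : ↥V) : X) ∈ V := (N ⟨v, hv⟩).2
      refine ⟨(N ⟨v, hv⟩ : ↥V), hcV, (N ⟨v, hv⟩ : ↥V) * v, ?_, ?_, ?_⟩
      · -- `N v * v ∈ [V, K]`
        have e1 : v * (x * v * x⁻¹) = ⁅v, x⁆ := by
          rw [commutatorElement_def, hinv v hv]; group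
        have e2 : v * (x * (x * v * x⁻¹) * x⁻¹) = ⁅v, x * x⁆ := by
          rw [commutatorElement_def, hinv v hv]; group
        have hb : x * (x * v * x⁻¹) * x⁻¹ ∈ V :=
          (inferInstance : V.Normal).conj_mem _ ((inferInstance : V.Normal).conj_mem v hv x) x
        have e3 : ((N ⟨v, hv⟩ : ↥V) : X) * v =
            (v * (x * v * x⁻¹)) * (v * (x * (x * v * x⁻¹) * x⁻¹)) := by
          rw [hN]
          show v * (x * v * x⁻¹) * (x * (x * v * x⁻¹) * x⁻¹) * v = _
          rw [mul_assoc (v * (x * v * x⁻¹)), hcomm _ hb v hv]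
        rw [e3, e1, e2]
        exact Subgroup.mul_mem _ (Subgroup.commutator_mem_commutator hv hxK)
          (Subgroup.commutator_mem_commutator hv (K.mul_mem hxK hxK))
      · rw [← mul_assoc, hsq _ hcV, one_mul]
      · -- `N v` is centralized by `K`
        rw [Subgroup.mem_centralizer_iff]
        intro k hk
        obtain ⟨n, c', hc', rfl⟩ := hcos k hk
        have h1 : x * ((N ⟨v, hv⟩ : ↥V) : X) * x⁻¹ = (N ⟨v, hv⟩ : ↥V) := by
          rw [← hφ, hφN]
        have h2 : Commute x ((N ⟨v, hv⟩ : ↥V) : X) := mul_inv_eq_iff_eq_mul.1 h1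
        have h3' : ((N ⟨v, hv⟩ : ↥V) : X) * c' = c' * ((N ⟨v, hv⟩ : ↥V) : X) :=
          (Subgroup.mem_centralizer_iff.1 hc') _ hcV
        calc x ^ n * c' * ((N ⟨v, hv⟩ : ↥V) : X) = x ^ n * (c' * ((N ⟨v, hv⟩ : ↥V) : X)) := mul_assoc _ _ _
          _ = x ^ n * (((N ⟨v, hv⟩ : ↥V) : X) * c') := by rw [h3']
          _ = x ^ n * ((N ⟨v, hv⟩ : ↥V) : X) * c' := (mul_assoc _ _ _).symm
          _ = ((N ⟨v, hv⟩ : ↥V) : X) * x ^ n * c' := by rw [(h2.pow_left n).eq]
          _ = ((N ⟨v, hv⟩ : ↥V) : X) * (x ^ n * c') := mul_assoc _ _ _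
    · -- `[V, K] ∩ C(K) = 1`
      have hle : ⁅V, K⁆ ≤ (N.ker).map V.subtype := by
        rw [Subgroup.commutator_le]
        intro v hv k hk
        obtain ⟨n, c', hc', rfl⟩ := hcos k hk
        refine ⟨(⟨v, hv⟩ : ↥V) * MulAut.conjNormal (x ^ n) ⟨v, hv⟩, ?_, ?_⟩
        · show N ((⟨v, hv⟩ : ↥V) * MulAut.conjNormal (x ^ n) ⟨v, hv⟩) = 1
          rw [map_mul, hNpow, hs]
        · show ((⟨v, hv⟩ : ↥V) : X) * ((MulAut.conjNormal (x ^ n) ⟨v, hv⟩ : ↥V) : X) = ⁅v, x ^ n * c'⁆
          rw [hφ, commutatorElement_def, hinv v hv]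
          have h6 : v * c' = c' * v := (Subgroup.mem_centralizer_iff.1 hc') v hv
          have h7 : c' * v * c'⁻¹ = v := by rw [← h6, mul_inv_cancel_right]
          show v * (x ^ n * v * (x ^ n)⁻¹) = v * (x ^ n * c') * v * (x ^ n * c')⁻¹
          have e : v * (x ^ n * c') * v * (x ^ n * c')⁻¹ = v * (x ^ n * (c' * v * c'⁻¹) * (x ^ n)⁻¹) := by
            group
          rw [e, h7]
      rw [eq_bot_iff]
      intro u hu
      obtain ⟨y, hy, rfl⟩ := hle hu.1
      have hy1 : N y = 1 := hy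
      have hxy : x * (y : X) = (y : X) * x := (Subgroup.mem_centralizer_iff.1 hu.2) x hxK
      have hφy : MulAut.conjNormal x y = y := by
        apply Subtype.ext
        rw [hφ, hxy, mul_inv_cancel_right]
      rw [hN, hφy, hφy, hs, one_mul] at hy1
      rw [Subgroup.mem_bot]
      show ((y : ↥V) : X) = 1
      rw [hy1]; rfl

example : Cfsg.Agent.H52.Sr.StDec.{u} := dec

end Cfsg.Agent.H56.Sr

#print axioms Cfsg.Agent.H56.Sr.dec
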