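import Cfsg.Agent.H23.StbHatDefs
import Cfsg.Agent.H23.Gen.E7.Tbl0

/-!
# S2156 (helper23's project SD): the coordinate functions of type `E₇` (helper56)

`mCE7 i c` is the coefficient of the `i`-th fundamental root in the root of index `c` (zero on the
Cartan indices); `e7_coord : Coord chevE7 mCE7`.
-/

set_option autoImplicit false
set_option maxRecDepth 100000

namespace Cfsg.Agent.H56.StbG

open Cfsg.Lie Cfsg.Agent.H23 Cfsg.Agent.H23.Stb

/-- The packed tables (4 bits per root, offset 8) of the coefficients of the fundamental roots. -/
def mTabE7 : List ℕ :=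
  [34697940443699103822139810786372551013495764379361883993796126147650721633591941562047974413441889594878105789873982489094025430952198632610180585977718,
   34916166471218227653824055802071058406798804830415678035114050892773822327400327901386594350910148203982719918858109089771943177893075864105278524253798,
   38394144005115164017017874095012132912797209800775394732012037198205129830641227845291947318662786950838463174508422764826890815013827143154969640068693,
   41898547335599611173795864530149681258866830240364185336822204587111013577184088666232058656732359537933836511497953487796237795300636618712054226048068,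
   38407729867000469441448433733475502432537441375737925766680782451200191516763074647125499830789680906455113054226909898693882178289332544571566836831573,
   34916163167317054930468204386960117003146089297106084411010039749541905757363997154764115658665626895429987503200586118808094746956520439008830929921638,
   31424549640690699696106959396745843392659713238950671462144756158022280001775456586881310024586884513131781634249211423895866578080810912083894383114103]

/-- The coefficient of the `i`-th fundamental root in the weight of the index `c`. -/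
def mCE7 (i c : ℕ) : ℤ := zS (mTabE7.getD i 0) chevE7.nroots c

theorem coordAdm_E7_0_0 : allFrom (checkAdm chevE7 tblE7 (mTabE7.getD 0 0)) 0 126 = true := by
  decide +kernel
theorem coordAdm_E7_0 : allFrom (checkAdm chevE7 tblE7 (mTabE7.getD 0 0)) 0 126 = true :=
  coordAdm_E7_0_0
theorem coordAdm_E7_1_0 : allFrom (checkAdm chevE7 tblE7 (mTabE7.getD 1 0)) 0 126 = true := by
  decide +kernel
theorem coordAdm_E7_1 : allFrom (checkAdm chevE7 tblE7 (mTabE7.getD 1 0)) 0 126 = true :=
  coordAdm_E7_1_0
theorem coordAdm_E7_2_0 : allFrom (checkAdm chevE7 tblE7 (mTabE7.getD 2 0)) 0 126 = true := by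
  decide +kernel
theorem coordAdm_E7_2 : allFrom (checkAdm chevE7 tblE7 (mTabE7.getD 2 0)) 0 126 = true :=
  coordAdm_E7_2_0
theorem coordAdm_E7_3_0 : allFrom (checkAdm chevE7 tblE7 (mTabE7.getD 3 0)) 0 126 = true := by
  decide +kernel
theorem coordAdm_E7_3 : allFrom (checkAdm chevE7 tblE7 (mTabE7.getD 3 0)) 0 126 = true :=
  coordAdm_E7_3_0
theorem coordAdm_E7_4_0 : allFrom (checkAdm chevE7 tblE7 (mTabE7.getD 4 0)) 0 126 = true := by
  decide +kernel
theorem coordAdm_E7_4 : allFrom (checkAdm chevE7 tblE7 (mTabE7.getD 4 0)) 0 126 = true :=
  coordAdm_E7_4_0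
theorem coordAdm_E7_5_0 : allFrom (checkAdm chevE7 tblE7 (mTabE7.getD 5 0)) 0 126 = true := by
  decide +kernel
theorem coordAdm_E7_5 : allFrom (checkAdm chevE7 tblE7 (mTabE7.getD 5 0)) 0 126 = true :=
  coordAdm_E7_5_0
theorem coordAdm_E7_6_0 : allFrom (checkAdm chevE7 tblE7 (mTabE7.getD 6 0)) 0 126 = true := by
  decide +kernel
theorem coordAdm_E7_6 : allFrom (checkAdm chevE7 tblE7 (mTabE7.getD 6 0)) 0 126 = true :=
  coordAdm_E7_6_0

theorem e7_coord_simple : ∀ i < chevE7.rank, ∀ j < chevE7.rank,
    mCE7 i (chevE7.simple j) = if i = j then 1 else 0 := by decide +kernel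

theorem e7_coord_neg : ∀ i < chevE7.rank, ∀ j < chevE7.rank,
    mCE7 i (chevE7.neg (chevE7.simple j)) = if i = j then -1 else 0 := by decide +kernel

theorem e7_coord_cartan : ∀ i < chevE7.rank, ∀ k < chevE7.rank, mCE7 i (chevE7.nroots + k) = 0 := by
  decide +kernel

/-- The coordinate functions of type `E₇`. -/
theorem e7_coord : Coord chevE7 mCE7 where
  adm := by
    intro i hi
    have hT : TblOK chevE7 tblE7 := all_of_allFrom _ 126 tbl_E7_file0
    have hi' : i < 7 := hi
    interval_cases i
    · exact checkAdm_sound chevE7 tblE7 hT _ (all_of_allFrom _ 126 coordAdm_E7_0)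
    · exact checkAdm_sound chevE7 tblE7 hT _ (all_of_allFrom _ 126 coordAdm_E7_1)
    · exact checkAdm_sound chevE7 tblE7 hT _ (all_of_allFrom _ 126 coordAdm_E7_2)
    · exact checkAdm_sound chevE7 tblE7 hT _ (all_of_allFrom _ 126 coordAdm_E7_3)
    · exact checkAdm_sound chevE7 tblE7 hT _ (all_of_allFrom _ 126 coordAdm_E7_4)
    · exact checkAdm_sound chevE7 tblE7 hT _ (all_of_allFrom _ 126 coordAdm_E7_5)
    · exact checkAdm_sound chevE7 tblE7 hT _ (all_of_allFrom _ 126 coordAdm_E7_6)
  simple := e7_coord_simple
  neg := e7_coord_neg
  cartan := e7_coord_cartan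

end Cfsg.Agent.H56.StbG

#print axioms Cfsg.Agent.H56.StbG.e7_coord
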