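import Mathlib
import Cfsg.Agent.H13.PCore
import Cfsg.Agent.H56.TWB

set_option autoImplicit false

/-!
# Thompson–Wielandt: the main theorem (helper56, for S5752)

`tw_main` : for two subgroups `M`, `N` with the primitivity property `(P)`, neither containing the
other, isomorphic, with first cores `A₁`, `B₁` and nontrivial second cores `A₂`, `B₂`: there is a
prime `p` with `A₂ ⊔ B₂` a `p`-group and `F*(M) = O_p(M)`, `F*(A₁) = O_p(A₁)`, `F*(N) = O_p(N)`,
`F*(B₁) = O_p(B₁)`.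
-/

namespace Cfsg.Agent.H56.TW

open Cfsg Subgroup

universe u

section typelevel

variable {X : Type u} [Group X] [Finite X]

/-- If `E(X) = 1` and `X ≠ 1` then some `O_p(X) ≠ 1`. -/
theorem exists_pCore_ne_bot [Nontrivial X] (hE : layer X = ⊥) :
    ∃ p : ℕ, p.Prime ∧ pCore p X ≠ ⊥ := by
  by_contra hno
  push Not at hno
  have hF : fittingSubgroup X = ⊥ := by
    rw [H27.fitting_eq_pCoreJoin]
    unfold H27.pCoreJoin
    rw [iSup_eq_bot]
    rintro ⟨q, hq⟩
    exact hno q (Nat.prime_of_mem_primeFactors hq)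
  have hFs : generalizedFittingSubgroup X = ⊥ := by
    rw [H28.genFitting_eq_fitting_of_layer_eq_bot hE, hF]
  have h := H27.centralizer_genFitting_le (G := X)
  rw [hFs] at h
  obtain ⟨x, hx⟩ := exists_ne (1 : X)
  apply hx
  have hxc : x ∈ Subgroup.centralizer (((⊥ : Subgroup X) : Subgroup X) : Set X) := by
    rw [Subgroup.mem_centralizer_iff]
    intro y hy
    have hy1 : y = 1 := Subgroup.mem_bot.mp hy
    rw [hy1, one_mul, mul_one]
  exact Subgroup.mem_bot.mp (h hxc)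

/-- If `E(X) = 1` and `O_q(X) = 1` for all primes `q ≠ p` then `F*(X) = O_p(X)`. -/
theorem genFitting_eq_pCore {p : ℕ} [Fact p.Prime] (hE : layer X = ⊥)
    (h : ∀ q : ℕ, q.Prime → q ≠ p → pCore q X = ⊥) :
    generalizedFittingSubgroup X = pCore p X := by
  rw [H28.genFitting_eq_fitting_of_layer_eq_bot hE]
  apply le_antisymm
  · rw [H27.fitting_eq_pCoreJoin]
    unfold H27.pCoreJoin
    apply iSup_le
    rintro ⟨q, hq⟩
    by_cases hqp : q = p
    · subst hqp; exact le_rfl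
    · rw [h q (Nat.prime_of_mem_primeFactors hq) hqp]; exact bot_le
  · exact H27.pCore_le_fitting p

end typelevel

variable {G : Type u} [Group G]

/-- The primitivity property `(P)` of a core-free maximal subgroup. -/
theorem prim_of_coatom {M : Subgroup G} (hmax : IsCoatom M) (hcore : M.normalCore = ⊥) :
    ∀ L : Subgroup G, L ≠ ⊥ → L ≤ M → M ≤ normalizer (L : Set G) →
      normalizer (L : Set G) ≤ M := by
  intro L hL0 hLM hML
  by_contra hnot
  have htop : normalizer (L : Set G) = ⊤ := by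
    rcases eq_or_lt_of_le hML with h | h
    · exact absurd (h ▸ le_rfl) hnot
    · exact hmax.2 _ h
  have hn : L.Normal := Subgroup.normalizer_eq_top_iff.mp htop
  have h1 : L ≤ M.normalCore := Subgroup.normal_le_normalCore.mpr hLM
  rw [hcore] at h1
  exact hL0 (le_bot_iff.mp h1)

theorem layer_eq_bot_of_normal {A M : Subgroup G} (hAM : A ≤ M)
    (hMA : M ≤ normalizer (A : Set G)) (hEM : layer ↥M = ⊥) : layer ↥A = ⊥ := by
  rw [H28.layer_eq_bot_iff]
  intro K hK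
  have hc : CompIn (K.map A.subtype) A := by
    refine ⟨Subgroup.map_subtype_le K, ?_⟩
    have e : (K.map A.subtype).subgroupOf A = K := by
      rw [Subgroup.subgroupOf, Subgroup.comap_map_eq_self_of_injective A.subtype_injective]
    rw [e]; exact hK
  exact (H28.layer_eq_bot_iff.mp hEM) _ (hc.extend hAM hMA).2

theorem pCore_eq_bot_of_normal [Finite G] {q : ℕ} [Fact q.Prime] {A M : Subgroup G} (hAM : A ≤ M)
    (hMA : M ≤ normalizer (A : Set G)) (h : pCore q ↥M = ⊥) : pCore q ↥A = ⊥ := by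
  have := H13.pCore_normal q ↥A
  have h1 : (pCore q ↥A).map A.subtype ≤ (pCore q ↥M).map M.subtype :=
    le_pCoreOf_of_normal_normal (Subgroup.map_subtype_le _) hAM
      ((H13.pCore_isPGroup q ↥A).map _) (le_nzr_map_subtype A _) hMA
  rw [h, Subgroup.map_bot, le_bot_iff,
    Subgroup.map_eq_bot_iff_of_injective _ A.subtype_injective] at h1
  exact h1

/-- **Thompson–Wielandt** (abstract form). -/
theorem tw_main [Finite G] {M N A₁ B₁ A₂ B₂ : Subgroup G}
    (hPM : ∀ L : Subgroup G, L ≠ ⊥ → L ≤ M → M ≤ normalizer (L : Set G) →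
      normalizer (L : Set G) ≤ M)
    (hPN : ∀ L : Subgroup G, L ≠ ⊥ → L ≤ N → N ≤ normalizer (L : Set G) →
      normalizer (L : Set G) ≤ N)
    (hMN : ¬ M ≤ N) (hNM : ¬ N ≤ M) (e : ↥M ≃* ↥N)
    (hA₁ : A₁ = coreIn (M ⊓ N) M) (hB₁ : B₁ = coreIn (M ⊓ N) N)
    (hA₂ : A₂ = coreIn (A₁ ⊓ B₁) M) (hB₂ : B₂ = coreIn (A₁ ⊓ B₁) N)
    (hA₂0 : A₂ ≠ ⊥) (hB₂0 : B₂ ≠ ⊥) :
    ∃ p : ℕ, p.Prime ∧ IsPGroup p ↥(A₂ ⊔ B₂) ∧
      generalizedFittingSubgroup ↥M = pCore p ↥M ∧
      generalizedFittingSubgroup ↥A₁ = pCore p ↥A₁ ∧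
      generalizedFittingSubgroup ↥N = pCore p ↥N ∧
      generalizedFittingSubgroup ↥B₁ = pCore p ↥B₁ := by
  -- basic containments
  have hA₁M : A₁ ≤ M := hA₁ ▸ coreIn_le_right _ _
  have hA₁N : A₁ ≤ N := hA₁ ▸ (coreIn_le_left _ _).trans inf_le_right
  have hMA₁ : M ≤ normalizer (A₁ : Set G) := hA₁ ▸ le_normalizer_coreIn _ _
  have hA₁max : ∀ x ∈ M, (∀ m ∈ M, m * x * m⁻¹ ∈ N) → x ∈ A₁ := by
    intro x hx h
    rw [hA₁]
    apply mem_coreIn hx
    intro m hm
    exact ⟨M.mul_mem (M.mul_mem hm hx) (M.inv_mem hm), h m hm⟩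
  have hB₁M : B₁ ≤ M := hB₁ ▸ (coreIn_le_left _ _).trans inf_le_left
  have hB₁N : B₁ ≤ N := hB₁ ▸ coreIn_le_right _ _
  have hNB₁ : N ≤ normalizer (B₁ : Set G) := hB₁ ▸ le_normalizer_coreIn _ _
  have hB₁max : ∀ x ∈ N, (∀ n ∈ N, n * x * n⁻¹ ∈ M) → x ∈ B₁ := by
    intro x hx h
    rw [hB₁]
    apply mem_coreIn hx
    intro n hn
    exact ⟨h n hn, N.mul_mem (N.mul_mem hn hx) (N.inv_mem hn)⟩
  have hA₂A : A₂ ≤ A₁ := hA₂ ▸ (coreIn_le_left _ _).trans inf_le_left
  have hA₂B : A₂ ≤ B₁ := hA₂ ▸ (coreIn_le_left _ _).trans inf_le_right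
  have hMA₂ : M ≤ normalizer (A₂ : Set G) := hA₂ ▸ le_normalizer_coreIn _ _
  have hB₂A : B₂ ≤ A₁ := hB₂ ▸ (coreIn_le_left _ _).trans inf_le_left
  have hB₂B : B₂ ≤ B₁ := hB₂ ▸ (coreIn_le_left _ _).trans inf_le_right
  have hNB₂ : N ≤ normalizer (B₂ : Set G) := hB₂ ▸ le_normalizer_coreIn _ _
  -- components
  have h1 : ∀ L, CompIn L M → CompIn L N := fun L hL =>
    compIn_transfer hPM hPN hA₁M hA₁N hMA₁ hB₁M hB₁N hNB₁ hB₁max hA₂B hA₂0 hMA₂ hB₂A hB₂B
      hB₂0 hNB₂ hL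
  have h2 : ∀ L, CompIn L N → CompIn L M := fun L hL =>
    compIn_transfer hPN hPM hB₁N hB₁M hNB₁ hA₁N hA₁M hMA₁ hA₁max hB₂A hB₂0 hNB₂ hA₂B hA₂A
      hA₂0 hMA₂ hL
  have hEM : layer ↥M = ⊥ := layer_eq_bot_of_transfer hPM hNM h1 h2
  have hEN : layer ↥N = ⊥ := layer_eq_bot_of_transfer hPN hMN h2 h1
  have hM0 : M ≠ ⊥ := by
    intro h
    apply hA₂0
    rw [← le_bot_iff, ← h]
    exact hA₂A.trans hA₁M
  have : Nontrivial ↥M := (Subgroup.nontrivial_iff_ne_bot M).mpr hM0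
  obtain ⟨p, hp, hpM⟩ := exists_pCore_ne_bot hEM
  have : Fact p.Prime := ⟨hp⟩
  -- the `p`-cores of `M` and `N`
  have hmapq : ∀ q : ℕ, (pCore q ↥M).map e.toMonoidHom = pCore q ↥N := fun q =>
    H27.rad_map_equiv (H27.isoInv_pGroup q) e
  have hcard : ∀ q : ℕ, Nat.card ((pCore q ↥M).map M.subtype)
      = Nat.card ((pCore q ↥N).map N.subtype) := by
    intro q
    rw [Subgroup.card_map_of_injective M.subtype_injective,
      Subgroup.card_map_of_injective N.subtype_injective, ← hmapq q,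
      Subgroup.card_map_of_injective e.injective]
  have key : ∀ q : ℕ, q.Prime → pCore q ↥M ≠ ⊥ → IsPGroup q A₂ ∧ IsPGroup q B₂ := by
    intro q hq hqM
    have : Fact q.Prime := ⟨hq⟩
    have := H13.pCore_normal q ↥M
    have := H13.pCore_normal q ↥N
    have hQM0 : (pCore q ↥M).map M.subtype ≠ ⊥ := by
      rwa [Ne, Subgroup.map_eq_bot_iff_of_injective _ M.subtype_injective]
    have hQN0 : (pCore q ↥N).map N.subtype ≠ ⊥ := by
      intro h
      apply hQM0
      rw [← Subgroup.card_eq_one] at h ⊢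
      rw [hcard q]; exact h
    have hMQM : M ≤ normalizer (((pCore q ↥M).map M.subtype : Subgroup G) : Set G) :=
      le_nzr_map_subtype M _
    have hNQN : N ≤ normalizer (((pCore q ↥N).map N.subtype : Subgroup G) : Set G) :=
      le_nzr_map_subtype N _
    have hpQM : IsPGroup q ↥((pCore q ↥M).map M.subtype) := (H13.pCore_isPGroup q ↥M).map _
    have hpQN : IsPGroup q ↥((pCore q ↥N).map N.subtype) := (H13.pCore_isPGroup q ↥N).map _
    have hq3N : ∀ Y : Subgroup G, Y ≤ B₁ → IsPGroup q Y → B₁ ≤ normalizer (Y : Set G) →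
        Y ≤ (pCore q ↥N).map N.subtype := fun Y hY hpY hn =>
      le_pCoreOf_of_normal_normal hY hB₁N hpY hn hNB₁
    have hq3M : ∀ Y : Subgroup G, Y ≤ A₁ → IsPGroup q Y → A₁ ≤ normalizer (Y : Set G) →
        Y ≤ (pCore q ↥M).map M.subtype := fun Y hY hpY hn =>
      le_pCoreOf_of_normal_normal hY hA₁M hpY hn hMA₁
    have hKA : opGen q A₂ = ⊥ :=
      tw_core (p := q) hPM hPN hMN hB₁M hB₁N hNB₁ hB₁max hMQM hpQM (Subgroup.map_subtype_le _)
        hNQN hpQN hQN0 (hcard q) hq3N (pperf_opGen q A₂) ((opGen_le q A₂).trans hA₂B)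
        (le_normalizer_opGen q hMA₂)
    have hKB : opGen q B₂ = ⊥ :=
      tw_core (p := q) hPN hPM hNM hA₁N hA₁M hMA₁ hA₁max hNQN hpQN (Subgroup.map_subtype_le _)
        hMQM hpQM hQM0 (hcard q).symm hq3M (pperf_opGen q B₂) ((opGen_le q B₂).trans hB₂A)
        (le_normalizer_opGen q hNB₂)
    constructor
    · apply isPGroup_of_coprime_eq_one
      intro x hx hc
      have : x ∈ opGen q A₂ := Subgroup.subset_closure ⟨hx, hc⟩
      rw [hKA] at this
      exact Subgroup.mem_bot.mp this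
    · apply isPGroup_of_coprime_eq_one
      intro x hx hc
      have : x ∈ opGen q B₂ := Subgroup.subset_closure ⟨hx, hc⟩
      rw [hKB] at this
      exact Subgroup.mem_bot.mp this
  obtain ⟨hpA₂, hpB₂⟩ := key p hp hpM
  have hsup : IsPGroup p ↥(A₂ ⊔ B₂) :=
    IsPGroup.to_sup_of_normal_right' hpA₂ hpB₂ ((hA₂B.trans hB₁N).trans hNB₂)
  have hMq : ∀ q : ℕ, q.Prime → q ≠ p → pCore q ↥M = ⊥ := by
    intro q hq hne
    by_contra hqM
    have : Fact q.Prime := ⟨hq⟩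
    have hqA₂ := (key q hq hqM).1
    have hcop := IsPGroup.coprime_card_of_ne q p hne A₂ A₂ hqA₂ hpA₂
    rw [Nat.coprime_self] at hcop
    exact hA₂0 (Subgroup.card_eq_one.mp hcop)
  have hNq : ∀ q : ℕ, q.Prime → q ≠ p → pCore q ↥N = ⊥ := by
    intro q hq hne
    rw [← hmapq q, hMq q hq hne, Subgroup.map_bot]
  exact ⟨p, hp, hsup, genFitting_eq_pCore hEM hMq,
    genFitting_eq_pCore (layer_eq_bot_of_normal hA₁M hMA₁ hEM)
      (fun q hq hne => by
        have : Fact q.Prime := ⟨hq⟩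
        exact pCore_eq_bot_of_normal hA₁M hMA₁ (hMq q hq hne)),
    genFitting_eq_pCore hEN hNq,
    genFitting_eq_pCore (layer_eq_bot_of_normal hB₁N hNB₁ hEN)
      (fun q hq hne => by
        have : Fact q.Prime := ⟨hq⟩
        exact pCore_eq_bot_of_normal hB₁N hNB₁ (hNq q hq hne))⟩

end Cfsg.Agent.H56.TW
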