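import Mathlib
import Cfsg.Agent.H36.TihDefs

set_option autoImplicit false

/-!
S4151-R3 (piece of helper36's TI Hall subgroup project): a coprime action on a cyclic
`p`-group is trivial, or fixed-point-free with `P = [P, Q]`.
-/

namespace Cfsg.Agent.H56.Tih

open Cfsg.Agent.H36.Tih

universe u

theorem stR3 : StR3.{u} := by
  intro G _ _ P Q p hp hPp hPc hnorm hcop
  have hpF : Fact p.Prime := ⟨hp⟩
  obtain ⟨⟨g, hgP⟩, hgen⟩ := hPc.exists_generator
  have hgen' : ∀ x ∈ P, ∃ i : ℕ, x = g ^ i := by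
    intro x hx
    have h1 := hgen ⟨x, hx⟩
    rw [← mem_powers_iff_mem_zpowers] at h1
    obtain ⟨i, hi⟩ := h1
    refine ⟨i, ?_⟩
    have h2 := congrArg Subtype.val hi
    simpa using h2.symm
  have hcardP : Nat.card P = orderOf g := by
    rw [← Subgroup.orderOf_mk g hgP]
    exact (orderOf_eq_card_of_forall_mem_zpowers hgen).symm
  obtain ⟨n, hn⟩ := (IsPGroup.iff_card).1 hPp
  have hN : orderOf g = p ^ n := by rw [← hcardP, hn]
  have hexp : ∀ q ∈ Q, ∃ k : ℕ, q * g * q⁻¹ = g ^ (k + 1) := by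
    intro q hq
    obtain ⟨m, hm⟩ := hgen' _ (hnorm q hq g hgP)
    refine ⟨m + orderOf g - 1, ?_⟩
    have h1 : m + orderOf g - 1 + 1 = m + orderOf g := by
      have := orderOf_pos g
      omega
    rw [h1, pow_add, pow_orderOf_eq_one, mul_one, hm]
  have hconjpow : ∀ (q : G) (k : ℕ), q * g * q⁻¹ = g ^ (k + 1) →
      ∀ i : ℕ, q * g ^ i * q⁻¹ = g ^ ((k + 1) * i) := by
    intro q k h i
    rw [← conj_pow, h, ← pow_mul]
  by_cases hcase : ∃ q ∈ Q, ∃ k : ℕ, q * g * q⁻¹ = g ^ (k + 1) ∧ ¬ p ∣ k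
  · right
    obtain ⟨q, hq, k, hk, hpk⟩ := hcase
    have hcop' : Nat.Coprime (orderOf g) k := by
      rw [hN]
      exact Nat.Coprime.pow_left n ((Nat.Prime.coprime_iff_not_dvd hp).2 hpk)
    constructor
    · intro x hx hfix
      obtain ⟨i, rfl⟩ := hgen' x hx
      have h1 := hfix q hq
      have h2 : q * g ^ i * q⁻¹ = g ^ i := by
        rw [h1]
        group
      rw [hconjpow q k hk i, add_mul, one_mul, pow_add] at h2
      have h3 : g ^ (k * i) = 1 :=
        mul_right_cancel (b := g ^ i) (by rw [one_mul]; exact h2)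
      have h4 : orderOf g ∣ k * i := orderOf_dvd_of_pow_eq_one h3
      have h5 : orderOf g ∣ i := hcop'.dvd_of_dvd_mul_left h4
      obtain ⟨j, rfl⟩ := h5
      rw [pow_mul, pow_orderOf_eq_one, one_pow]
    · intro x hx
      obtain ⟨i, rfl⟩ := hgen' x hx
      have hc : q * g * q⁻¹ * g⁻¹ = g ^ k := by
        rw [hk, pow_succ, mul_inv_cancel_right]
      have hcmem : g ^ k ∈ Subgroup.closure
          {y : G | ∃ q ∈ Q, ∃ x ∈ P, y = q * x * q⁻¹ * x⁻¹} :=
        Subgroup.subset_closure ⟨q, hq, g, hgP, hc.symm⟩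
      obtain ⟨j, hj⟩ : ∃ j : ℕ, (g ^ k) ^ j = g := by
        by_cases h1 : orderOf g = 1
        · refine ⟨0, ?_⟩
          rw [pow_zero]
          exact (orderOf_eq_one_iff.1 h1).symm
        · have hlt : 1 < orderOf g := by
            have := orderOf_pos g
            omega
          obtain ⟨j, -, hj⟩ := Nat.exists_mul_mod_eq_one_of_coprime hcop'.symm hlt
          refine ⟨j, ?_⟩
          rw [← pow_mul, ← pow_mod_orderOf, hj, pow_one]
      have hgmem : g ∈ Subgroup.closure
          {y : G | ∃ q ∈ Q, ∃ x ∈ P, y = q * x * q⁻¹ * x⁻¹} := by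
        have h2 := pow_mem hcmem j
        rwa [hj] at h2
      exact pow_mem hgmem i
  · left
    push Not at hcase
    intro x hx q hq
    obtain ⟨i, rfl⟩ := hgen' x hx
    obtain ⟨k, hk⟩ := hexp q hq
    have hpk := hcase q hq k hk
    have hdvd : orderOf g ∣ k := by
      rcases Nat.eq_zero_or_pos n with hn0 | hnpos
      · rw [hN, hn0, pow_zero]
        exact one_dvd k
      obtain ⟨n', rfl⟩ : ∃ n', n = n' + 1 := ⟨n - 1, by omega⟩
      have hiter : ∀ j : ℕ, q ^ j * g * (q ^ j)⁻¹ = g ^ ((k + 1) ^ j) := by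
        intro j
        induction j with
        | zero => simp
        | succ j ih =>
          have h1 : q ^ (j + 1) * g * (q ^ (j + 1))⁻¹ = q * (q ^ j * g * (q ^ j)⁻¹) * q⁻¹ := by
            rw [pow_succ']
            group
          rw [h1, ih, hconjpow q k hk, ← pow_succ']
      have h1 := hiter (orderOf q)
      rw [pow_orderOf_eq_one, one_mul, inv_one, mul_one] at h1
      have h2 : (k + 1) ^ orderOf q ≡ 1 [MOD orderOf g] := by
        rw [← pow_eq_pow_iff_modEq, pow_one]
        exact h1.symm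
      have h3 : (((k + 1 : ℕ) : ZMod (orderOf g))) ^ orderOf q = 1 := by
        have h0 := (ZMod.natCast_eq_natCast_iff _ _ _).2 h2
        push_cast at h0
        push_cast
        exact h0
      have hp_dvd : ((p : ℕ) : ZMod (orderOf g)) ∣ ((k + 1 : ℕ) : ZMod (orderOf g)) - 1 := by
        obtain ⟨k', rfl⟩ := hpk
        refine ⟨(k' : ZMod _), ?_⟩
        push_cast
        ring
      have h4 := dvd_sub_pow_of_dvd_sub hp_dvd n'
      have h5 : ((p : ZMod (orderOf g)) ^ (n' + 1)) = 0 := by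
        have h0 : ((p ^ (n' + 1) : ℕ) : ZMod (orderOf g)) = 0 := by
          rw [← hN]
          exact ZMod.natCast_self _
        push_cast at h0
        exact h0
      rw [h5, zero_dvd_iff, one_pow, sub_eq_zero] at h4
      have hcop2 : Nat.Coprime (orderOf q) (p ^ n') := by
        have h6 : orderOf q ∣ Nat.card Q := Subgroup.orderOf_dvd_natCard Q hq
        have h7 : Nat.Coprime (orderOf q) (p ^ (n' + 1)) := by
          rw [← hn]
          exact Nat.Coprime.coprime_dvd_left h6 hcop
        exact Nat.Coprime.pow_right n'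
          (Nat.Coprime.coprime_dvd_right (dvd_pow_self p (Nat.succ_ne_zero n')) h7)
      have h8 : orderOf (((k + 1 : ℕ) : ZMod (orderOf g))) ∣ 1 := by
        have h0 := Nat.dvd_gcd (orderOf_dvd_of_pow_eq_one h3) (orderOf_dvd_of_pow_eq_one h4)
        rwa [Nat.Coprime.gcd_eq_one hcop2] at h0
      have h9 : ((k + 1 : ℕ) : ZMod (orderOf g)) = 1 := orderOf_eq_one_iff.1 (Nat.dvd_one.1 h8)
      have h10 : ((k : ℕ) : ZMod (orderOf g)) = 0 := by
        push_cast at h9
        linear_combination h9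
      exact (ZMod.natCast_eq_zero_iff k (orderOf g)).1 h10
    have hqg : q * g * q⁻¹ = g := by
      rw [hk, pow_succ]
      obtain ⟨j, rfl⟩ := hdvd
      rw [pow_mul, pow_orderOf_eq_one, one_pow, one_mul]
    have h1 : q * g ^ i * q⁻¹ = g ^ i := by rw [← conj_pow, hqg]
    calc q * g ^ i = (q * g ^ i * q⁻¹) * q := by group
      _ = g ^ i * q := by rw [h1]

end Cfsg.Agent.H56.Tih
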