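import Mathlib
import Cfsg.Agent.H36.TihDefs
import Cfsg.Agent.H1.CoprimeSylow

set_option autoImplicit false

/-!
S4151-R4 (piece of helper36's TI Hall subgroup project): under coprime action on a Z-group the
fixed points form a Hall subgroup.
-/

namespace Cfsg.Agent.H56.Tih

open Cfsg.Agent.H36.Tih

universe u

theorem stR4 (h3 : StR3.{u}) : StR4.{u} := by
  intro G _ _ H Q hZ hnorm hcop
  by_contra hnot
  obtain ⟨p, hp, hpC, hpI⟩ := (Nat.Prime.not_coprime_iff_dvd).1 hnot
  have hpF : Fact p.Prime := ⟨hp⟩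
  obtain ⟨⟨x, hxC⟩, hxo⟩ := exists_prime_orderOf_dvd_card' p hpC
  have hxo' : orderOf x = p := by rw [← hxo, Subgroup.orderOf_mk]
  have hxH : x ∈ H := (Subgroup.mem_inf.1 hxC).1
  have hxQ : x ∈ Subgroup.centralizer (Q : Set G) := (Subgroup.mem_inf.1 hxC).2
  have hU : IsPGroup p (Subgroup.zpowers x) :=
    IsPGroup.of_card (n := 1) (by rw [Nat.card_zpowers, hxo', pow_one])
  have hUH : Subgroup.zpowers x ≤ H := by
    rw [Subgroup.zpowers_le]
    exact hxH
  have hUA : Q ≤ Subgroup.normalizer (Subgroup.zpowers x : Set G) := by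
    refine le_trans ?_ (Subgroup.centralizer_le_normalizer _)
    rw [Subgroup.le_centralizer_iff, Subgroup.zpowers_le]
    exact hxQ
  have hQH : Q ≤ Subgroup.normalizer (H : Set G) := by
    intro q hq
    rw [Subgroup.mem_normalizer_iff]
    intro y
    constructor
    · exact hnorm q hq y
    · intro hy
      have h0 := hnorm q⁻¹ (inv_mem hq) _ hy
      have h1 : q⁻¹ * (q * y * q⁻¹) * q⁻¹⁻¹ = y := by group
      rwa [h1] at h0
  have hsolv : Group.IsSolvable H := inferInstance
  obtain ⟨P, hUP, hPA⟩ := Cfsg.Agent.H1.coprime_invariant_pgroup_le_sylow Q H hQH hcop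
    (Or.inr hsolv) p (Subgroup.zpowers x) hUH hU hUA
  have hPc : IsCyclic ↥((P : Subgroup H).map H.subtype) := by
    have hc : IsCyclic ↥(P : Subgroup H) := hZ.isZGroup p hp P
    exact isCyclic_of_surjective
      ((P : Subgroup H).equivMapOfInjective H.subtype H.subtype_injective)
      (MulEquiv.surjective _)
  have hPp : IsPGroup p ↥((P : Subgroup H).map H.subtype) := P.2.map _
  have hPH : (P : Subgroup H).map H.subtype ≤ H := Subgroup.map_subtype_le _
  have hnorm' : ∀ q ∈ Q, ∀ y ∈ (P : Subgroup H).map H.subtype,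
      q * y * q⁻¹ ∈ (P : Subgroup H).map H.subtype :=
    fun q hq y hy => (Subgroup.mem_normalizer_iff.1 (hPA hq) y).1 hy
  have hcop' : (Nat.card Q).Coprime (Nat.card ↥((P : Subgroup H).map H.subtype)) :=
    Nat.Coprime.coprime_dvd_right (Subgroup.card_dvd_of_le hPH) hcop
  rcases h3 G _ Q p hp hPp hPc hnorm' hcop' with hcen | ⟨hfix, -⟩
  · have hPC : (P : Subgroup H).map H.subtype ≤ H ⊓ Subgroup.centralizer (Q : Set G) := by
      refine le_inf hPH ?_
      intro y hy
      rw [Subgroup.mem_centralizer_iff]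
      intro q hq
      exact hcen y hy q hq
    have hcardP : Nat.card ↥((P : Subgroup H).map H.subtype) =
        p ^ (Nat.card H).factorization p := Cfsg.Agent.H1.sylow_map_card p H P
    have h1 : p ^ (Nat.card H).factorization p ∣
        Nat.card ↥(H ⊓ Subgroup.centralizer (Q : Set G)) := by
      rw [← hcardP]
      exact Subgroup.card_dvd_of_le hPC
    have h2 : Nat.card ↥(H ⊓ Subgroup.centralizer (Q : Set G)) *
        (H ⊓ Subgroup.centralizer (Q : Set G)).relIndex H = Nat.card H := by
      have h0 : Nat.card ((H ⊓ Subgroup.centralizer (Q : Set G)).subgroupOf H) =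
          Nat.card ↥(H ⊓ Subgroup.centralizer (Q : Set G)) :=
        Nat.card_congr (Subgroup.subgroupOfEquivOfLe inf_le_left).toEquiv
      rw [Subgroup.relIndex, ← h0, Subgroup.card_mul_index]
    have h3' : p ^ ((Nat.card H).factorization p + 1) ∣ Nat.card H := by
      have h5 : p ^ ((Nat.card H).factorization p + 1) ∣
          Nat.card ↥(H ⊓ Subgroup.centralizer (Q : Set G)) *
            (H ⊓ Subgroup.centralizer (Q : Set G)).relIndex H := by
        rw [pow_succ]
        exact Nat.mul_dvd_mul h1 hpI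
      rwa [h2] at h5
    have h4 := (Nat.Prime.pow_dvd_iff_le_factorization hp Nat.card_pos.ne').1 h3'
    omega
  · have hx1 : x = 1 := hfix x (hUP (Subgroup.mem_zpowers x))
      (fun q hq => Subgroup.mem_centralizer_iff.1 hxQ q hq)
    rw [hx1, orderOf_one] at hxo'
    exact hp.one_lt.ne hxo'

end Cfsg.Agent.H56.Tih
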