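import Cfsg.Agent.H67.UmDefs

/-!
# S2263 (helper67's project UM), piece UM-AR3 (helper56): at least three parts

`L` is the least common multiple of the `Qn q a`; every `Qn q a` is a multiple of `q + 1`, so `L ≤ q ^ (s - n + 1) + 1`
for `n` parts with `s = Σ a`; `t = K - 1` for the largest multiplicity `K`, and `s + K ≤ d + 1`.
-/

set_option autoImplicit false

namespace Cfsg.Agent.H56.Um

open Cfsg.Agent.H67.Um

/-- The least common multiple of the `Qn q a`. -/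
def lcmQ (q : ℕ) : List (ℕ × ℕ) → ℕ
  | [] => 1
  | x :: l => Nat.lcm (Qn q x.1) (lcmQ q l)

theorem dvd_lcmQ (q : ℕ) (l : List (ℕ × ℕ)) : ∀ x ∈ l, Qn q x.1 ∣ lcmQ q l := by
  induction l with
  | nil => intro x hx; simp at hx
  | cons y l ih =>
    intro x hx
    rcases List.mem_cons.1 hx with rfl | hx
    · exact Nat.dvd_lcm_left _ _
    · exact dvd_trans (ih x hx) (Nat.dvd_lcm_right _ _)

theorem Qn_le (q a : ℕ) : Qn q a ≤ q ^ a + 1 := by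
  unfold Qn; split_ifs <;> omega

theorem Qn_pos (q a : ℕ) (hq : 2 ≤ q) (ha : 1 ≤ a) : 1 ≤ Qn q a := by
  unfold Qn
  split_ifs with h
  · have h2 : 2 ≤ q ^ a := by
      calc 2 ≤ q := hq
        _ = q ^ 1 := (pow_one q).symm
        _ ≤ q ^ a := Nat.pow_le_pow_right (by omega) ha
    omega
  · omega

theorem dvd_Qn (q a : ℕ) (hq : 1 ≤ q) : q + 1 ∣ Qn q a := by
  unfold Qn
  split_ifs with h
  · obtain ⟨b, rfl⟩ := h
    have h1 : q ^ 2 - 1 ∣ (q ^ 2) ^ b - 1 := by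
      simpa using Nat.sub_dvd_pow_sub_pow (q ^ 2) 1 b
    have h2 : q + 1 ∣ q ^ 2 - 1 := by
      obtain ⟨r, rfl⟩ : ∃ r, q = r + 1 := ⟨q - 1, by omega⟩
      refine ⟨r, ?_⟩
      have : (r + 1) ^ 2 = (r + 1 + 1) * r + 1 := by ring
      omega
    rw [← two_mul, pow_mul]
    exact dvd_trans h2 h1
  · have ho : Odd a := Nat.not_even_iff_odd.1 h
    simpa using Odd.nat_add_dvd_pow_add_pow q 1 ho

theorem key_ineq (q a u : ℕ) (hq : 1 ≤ q) :
    (q ^ (a + 1) + 1) * (q ^ (u + 1) + 1) ≤ (q + 1) * (q ^ (u + 1 + a) + 1) := by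
  have hA : 1 ≤ q ^ a := Nat.one_le_pow _ _ hq
  have hU : 1 ≤ q ^ u := Nat.one_le_pow _ _ hq
  obtain ⟨A, hA'⟩ : ∃ A, q ^ a = A + 1 := ⟨q ^ a - 1, by omega⟩
  obtain ⟨U, hU'⟩ : ∃ U, q ^ u = U + 1 := ⟨q ^ u - 1, by omega⟩
  have e1 : q ^ (a + 1) = q * (A + 1) := by rw [pow_succ, hA']; ring
  have e2 : q ^ (u + 1) = q * (U + 1) := by rw [pow_succ, hU']; ring
  have e3 : q ^ (u + 1 + a) = q * ((U + 1) * (A + 1)) := by rw [pow_add, pow_succ, hA', hU']; ring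
  rw [e1, e2, e3]
  have e4 : (q + 1) * (q * ((U + 1) * (A + 1)) + 1) =
      (q * (A + 1) + 1) * (q * (U + 1) + 1) + q * (A * U) := by ring
  rw [e4]
  exact Nat.le_add_right _ _

theorem lcmQ_bound (q : ℕ) (hq : 2 ≤ q) (l : List (ℕ × ℕ)) (hl : l ≠ []) (hpos : ∀ x ∈ l, 1 ≤ x.1) :
    ∃ e, e + l.length = (l.map Prod.fst).sum + 1 ∧ 1 ≤ e ∧ q + 1 ∣ lcmQ q l ∧ 1 ≤ lcmQ q l ∧
      lcmQ q l ≤ q ^ e + 1 := by
  induction l with
  | nil => exact absurd rfl hl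
  | cons x l ih =>
    have hx : 1 ≤ x.1 := hpos x List.mem_cons_self
    by_cases hl' : l = []
    · subst hl'
      refine ⟨x.1, by simp, hx, ?_, ?_, ?_⟩
      · show q + 1 ∣ Nat.lcm (Qn q x.1) 1
        rw [Nat.lcm_one_right]; exact dvd_Qn q x.1 (by omega)
      · show 1 ≤ Nat.lcm (Qn q x.1) 1
        rw [Nat.lcm_one_right]; exact Qn_pos q x.1 hq hx
      · show Nat.lcm (Qn q x.1) 1 ≤ _
        rw [Nat.lcm_one_right]; exact Qn_le q x.1
    · obtain ⟨e, he, he1, hdvd, hL1, hLe⟩ := ih hl' (fun y hy => hpos y (List.mem_cons_of_mem _ hy))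
      obtain ⟨a', ha'⟩ : ∃ a', x.1 = a' + 1 := ⟨x.1 - 1, by omega⟩
      obtain ⟨u', rfl⟩ : ∃ u', e = u' + 1 := ⟨e - 1, by omega⟩
      refine ⟨u' + 1 + a', ?_, by omega, ?_, ?_, ?_⟩
      · simp only [List.length_cons, List.map_cons, List.sum_cons]; omega
      · exact dvd_trans (dvd_Qn q x.1 (by omega)) (Nat.dvd_lcm_left _ _)
      · exact Nat.lcm_pos (Qn_pos q x.1 hq hx) hL1
      · show Nat.lcm (Qn q x.1) (lcmQ q l) ≤ q ^ (u' + 1 + a') + 1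
        have hg : q + 1 ∣ Nat.gcd (Qn q x.1) (lcmQ q l) := Nat.dvd_gcd (dvd_Qn q x.1 (by omega)) hdvd
        have hgpos : 0 < Nat.gcd (Qn q x.1) (lcmQ q l) := Nat.gcd_pos_of_pos_left _ (Qn_pos q x.1 hq hx)
        have hgle : q + 1 ≤ Nat.gcd (Qn q x.1) (lcmQ q l) := Nat.le_of_dvd hgpos hg
        have hmul : Nat.gcd (Qn q x.1) (lcmQ q l) * Nat.lcm (Qn q x.1) (lcmQ q l) =
            Qn q x.1 * lcmQ q l := Nat.gcd_mul_lcm _ _
        have h1 : (q + 1) * Nat.lcm (Qn q x.1) (lcmQ q l) ≤ (q ^ x.1 + 1) * (q ^ (u' + 1) + 1) := by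
          calc (q + 1) * Nat.lcm (Qn q x.1) (lcmQ q l)
              ≤ Nat.gcd (Qn q x.1) (lcmQ q l) * Nat.lcm (Qn q x.1) (lcmQ q l) :=
                Nat.mul_le_mul_right _ hgle
            _ = Qn q x.1 * lcmQ q l := hmul
            _ ≤ (q ^ x.1 + 1) * (q ^ (u' + 1) + 1) := Nat.mul_le_mul (Qn_le q x.1) hLe
        have h2 : (q ^ x.1 + 1) * (q ^ (u' + 1) + 1) ≤ (q + 1) * (q ^ (u' + 1 + a') + 1) := by
          rw [ha']
          exact key_ineq q a' u' (by omega)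
        exact Nat.le_of_mul_le_mul_left (h1.trans h2) (by omega)

theorem parts_max (l : List (ℕ × ℕ)) (hpos : ∀ x ∈ l, 1 ≤ x.1 ∧ 1 ≤ x.2) :
    ∃ K, (∀ x ∈ l, x.2 ≤ K) ∧ (l.map Prod.fst).sum ≤ (l.map (fun x => x.1 * x.2)).sum ∧
      (l.map Prod.fst).sum + K ≤ (l.map (fun x => x.1 * x.2)).sum + 1 := by
  induction l with
  | nil => exact ⟨0, by simp, by simp, by simp⟩
  | cons x l ih =>
    obtain ⟨K, hK, h1, h2⟩ := ih (fun y hy => hpos y (List.mem_cons_of_mem _ hy))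
    obtain ⟨ha, hk⟩ := hpos x List.mem_cons_self
    have hak : x.1 ≤ x.1 * x.2 := Nat.le_mul_of_pos_right _ hk
    have hak2 : x.1 + x.2 ≤ x.1 * x.2 + 1 := by
      obtain ⟨a, ha'⟩ : ∃ a, x.1 = a + 1 := ⟨x.1 - 1, by omega⟩
      obtain ⟨k, hk'⟩ : ∃ k, x.2 = k + 1 := ⟨x.2 - 1, by omega⟩
      rw [ha', hk']
      have : (a + 1) * (k + 1) + 1 = a + 1 + (k + 1) + a * k := by ring
      omega
    refine ⟨max x.2 K, ?_, ?_, ?_⟩
    · intro y hy
      rcases List.mem_cons.1 hy with rfl | hy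
      · exact le_max_left _ _
      · exact (hK y hy).trans (le_max_right _ _)
    · simp only [List.map_cons, List.sum_cons]; omega
    · simp only [List.map_cons, List.sum_cons]
      rcases max_cases x.2 K with ⟨h, _⟩ | ⟨h, _⟩ <;> rw [h] <;> omega

theorem tgt_ge (p f D : ℕ) (hp : p.Prime) (hf : 1 ≤ f) : (p ^ f) ^ (D + 2) ≤ tgt p f (D + 3) + 1 := by
  unfold tgt
  have e1 : D + 3 - 1 = D + 2 := rfl
  have e2 : D + 3 - 2 = D + 1 := rfl
  have e3 : D + 3 - 3 = D := rfl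
  rw [e1, e2, e3]
  split_ifs with h1 h2 h3
  · omega
  · have hf1 : f = 1 := by omega
    subst hf1
    rw [pow_one]
    have e4 : p ^ (D + 2) = p ^ (D + 1) * p := pow_succ p (D + 1)
    have e5 : (p ^ (D + 1) + 1) * p = p ^ (D + 1) * p + p := by ring
    omega
  · omega
  · have h2' : p ^ f = 2 := by
      have : 2 ≤ p ^ f := calc 2 ≤ p := hp.two_le
          _ = p ^ 1 := (pow_one p).symm
          _ ≤ p ^ f := Nat.pow_le_pow_right hp.pos hf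
      omega
    rw [h2']
    have e4 : 2 ^ (D + 2) = 4 * 2 ^ D := by ring
    omega

/-- **UM-AR3**. -/
theorem ar3 : StAr3 := by
  intro p f d l hp hf hd _ hParts hlen
  obtain ⟨hpos, hsum⟩ := hParts
  have hq : 2 ≤ p ^ f := calc 2 ≤ p := hp.two_le
      _ = p ^ 1 := (pow_one p).symm
      _ ≤ p ^ f := Nat.pow_le_pow_right hp.pos hf
  have hl : l ≠ [] := by rintro rfl; simp at hlen
  obtain ⟨e, he, he1, hdvd, hL1, hLe⟩ := lcmQ_bound (p ^ f) hq l hl (fun x hx => (hpos x hx).1)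
  obtain ⟨K, hK, h1, h2⟩ := parts_max l hpos
  rw [hsum] at h1 h2
  have hK1 : 1 ≤ K := by
    obtain ⟨x, hx⟩ := List.exists_mem_of_ne_nil l hl
    exact (hpos x hx).2.trans (hK x hx)
  refine ⟨lcmQ (p ^ f) l, K - 1, hL1, dvd_lcmQ (p ^ f) l, ?_, ?_⟩
  · intro x hx
    have h3 : K - 1 < p ^ (K - 1) := Nat.lt_pow_self hp.one_lt
    have h4 := hK x hx
    omega
  · obtain ⟨D, rfl⟩ : ∃ D, d = D + 3 := ⟨d - 3, by omega⟩
    have hT := tgt_ge p f D hp hf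
    have heK : e + K ≤ D + 2 := by omega
    have hpq : p ^ (K - 1) ≤ (p ^ f) ^ (K - 1) :=
      Nat.pow_le_pow_left (calc p = p ^ 1 := (pow_one p).symm
        _ ≤ p ^ f := Nat.pow_le_pow_right hp.pos hf) _
    have h3 : lcmQ (p ^ f) l * p ^ (K - 1) ≤ ((p ^ f) ^ e + 1) * (p ^ f) ^ (K - 1) :=
      Nat.mul_le_mul hLe hpq
    have h4 : ((p ^ f) ^ e + 1) * (p ^ f) ^ (K - 1) =
        (p ^ f) ^ (e + (K - 1)) + (p ^ f) ^ (K - 1) := by rw [pow_add]; ring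
    have h5 : (p ^ f) ^ (e + (K - 1)) ≤ (p ^ f) ^ (D + 1) :=
      Nat.pow_le_pow_right (by omega) (by omega)
    have h6 : (p ^ f) ^ (K - 1) ≤ (p ^ f) ^ D := Nat.pow_le_pow_right (by omega) (by omega)
    have h7 : (p ^ f) ^ (D + 1) + (p ^ f) ^ D + 1 ≤ (p ^ f) ^ (D + 2) := by
      have hD : 1 ≤ (p ^ f) ^ D := Nat.one_le_pow _ _ (by omega)
      have e1 : (p ^ f) ^ (D + 1) = (p ^ f) ^ D * (p ^ f) := pow_succ _ _
      have e2 : (p ^ f) ^ (D + 2) = (p ^ f) ^ D * (p ^ f) * (p ^ f) := by rw [pow_succ, pow_succ]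
      rw [e1, e2]
      have e3 : (p ^ f) ^ D * 2 ≤ (p ^ f) ^ D * (p ^ f) := Nat.mul_le_mul_left _ hq
      have e4 : (p ^ f) ^ D * (p ^ f) * 2 ≤ (p ^ f) ^ D * (p ^ f) * (p ^ f) := Nat.mul_le_mul_left _ hq
      omega
    omega

example : Cfsg.Agent.H67.Um.StAr3 := ar3

end Cfsg.Agent.H56.Um

#print axioms Cfsg.Agent.H56.Um.ar3
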