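import Cfsg.Agent.H42.UnDefs
import Cfsg.Agent.H62.SpnUForm
import Cfsg.Agent.Lib.Helper96.SpnUBlock

set_option autoImplicit false

/-!
Piece UN-UBLOCK of the team project S5954 (helper42): a nonzero invariant nondegenerate subspace
of a unipotent isometry of a hermitian form contains a nondegenerate Jordan block.
-/

namespace Cfsg.Agent.H56.Un

open Cfsg.Agent.H45 Cfsg.Agent.H42.Spd Cfsg.Agent.H42.Un Module

universe u v

section

variable {F : Type u} [Field F] {σ : F →+* F} {V : Type v} [AddCommGroup V] [Module F V]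

theorem uiso_step (B : V →ₗ[F] V →ₛₗ[σ] F) (T : Module.End F V) (h : UIso B T) (a b : V) :
    B ((T - 1) a) b = -B (T a) ((T - 1) b) := by
  have h1 := h.isom a b
  have h2 : B (T a) (T b) = B (T a) ((T - 1) b) + B ((T - 1) a) b + B a b := by
    simp only [LinearMap.sub_apply, Module.End.one_apply, map_sub]
    ring
  rw [h2] at h1
  linear_combination h1

theorem uiso_step_pow (B : V →ₗ[F] V →ₛₗ[σ] F) (T : Module.End F V) (h : UIso B T) (k : ℕ) :
    ∀ a b : V, B (((T - 1) ^ k) a) b = (-1) ^ k * B ((T ^ k) a) (((T - 1) ^ k) b) := by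
  induction k with
  | zero =>
    intro a b
    simp
  | succ k ih =>
    intro a b
    have hc : (T - 1) ^ k * T = T * (T - 1) ^ k :=
      (((Commute.refl T).sub_left (Commute.one_left T)).pow_left k).eq
    have h1 : ((T - 1) ^ (k + 1)) a = (T - 1) (((T - 1) ^ k) a) := by
      rw [pow_succ', Module.End.mul_apply]
    have h2 : T (((T - 1) ^ k) a) = ((T - 1) ^ k) (T a) := by
      rw [← Module.End.mul_apply, ← Module.End.mul_apply, hc]
    have h3 : ((T - 1) ^ k) ((T - 1) b) = ((T - 1) ^ (k + 1)) b := by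
      rw [pow_succ, Module.End.mul_apply]
    have h4 : (T ^ k) (T a) = (T ^ (k + 1)) a := by
      rw [pow_succ, Module.End.mul_apply]
    rw [h1, uiso_step B T h, h2, ih (T a) ((T - 1) b), h3, h4, pow_succ]
    ring

/-- On an invariant subspace killed by `(T - 1) ^ (k + 1)`, the endomorphism `(T - 1) ^ k` is
`(-1) ^ k`-selfadjoint. -/
theorem uform_adj (B : V →ₗ[F] V →ₛₗ[σ] F) (T : Module.End F V) (h : UIso B T)
    (W : Submodule F V) (hW : W ∈ T.invtSubmodule) (k : ℕ)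
    (hN : ∀ w ∈ W, ((T - 1) ^ (k + 1)) w = 0) (x : V) (hx : x ∈ W) (y : V) (hy : y ∈ W) :
    B (((T - 1) ^ k) x) y = (-1) ^ k * B x (((T - 1) ^ k) y) := by
  rw [Module.End.mem_invtSubmodule_iff_forall_mem_of_mem] at hW
  obtain ⟨z, hz, hTz⟩ := Cfsg.Agent.H62.Spn.pow_sub_mem T W hW x hx k
  have h1 := uiso_step_pow B T h k x y
  have h2 : B ((T - 1) z) (((T - 1) ^ k) y) = 0 := by
    rw [uiso_step B T h]
    have h3 : (T - 1) (((T - 1) ^ k) y) = ((T - 1) ^ (k + 1)) y := by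
      rw [pow_succ', Module.End.mul_apply]
    rw [h3, hN y hy, map_zero, neg_zero]
  rw [hTz, map_add, LinearMap.add_apply, h2, add_zero] at h1
  exact h1

end

theorem uUBlock (hC : StUUCyc.{u, v}) : StUUBlock.{u, v} := by
  classical
  intro F _ _ σ V _ _ _ B T hIso hnil W hW hWne
  obtain ⟨k, hk⟩ := hnil
  have hex : ∃ e : ℕ, ∀ w ∈ W, ((T - 1) ^ e) w = 0 := ⟨k, fun w _ => by rw [hk]; rfl⟩
  obtain ⟨w₁, hw₁W, hw₁0⟩ := (Submodule.ne_bot_iff W).1 hWne
  set e := Nat.find hex with he_def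
  have he : ∀ w ∈ W, ((T - 1) ^ e) w = 0 := Nat.find_spec hex
  have he0 : 0 < e := by
    rcases Nat.eq_zero_or_pos e with h0 | h0
    · exfalso
      have := he w₁ hw₁W
      rw [h0, pow_zero, Module.End.one_apply] at this
      exact hw₁0 this
    · exact h0
  have hmin : ¬ ∀ w ∈ W, ((T - 1) ^ (e - 1)) w = 0 := Nat.find_min hex (by omega)
  push Not at hmin
  obtain ⟨w₀, hw₀W, hw₀⟩ := hmin
  have hyW : ((T - 1) ^ (e - 1)) w₀ ∈ W :=
    Cfsg.Agent.Lib.Helper96.Spn.pow_sub_one_mem hW.1 (e - 1) w₀ hw₀W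
  -- nondegeneracy of `W`
  have hex2 : ∃ u₀ ∈ W, B u₀ (((T - 1) ^ (e - 1)) w₀) ≠ 0 := by
    by_contra hcon
    push Not at hcon
    have hperp : ((T - 1) ^ (e - 1)) w₀ ∈ W ⊓ perp B W :=
      ⟨hyW, (mem_perp B W _).2 hcon⟩
    rw [hW.2] at hperp
    exact hw₀ ((Submodule.mem_bot F).1 hperp)
  obtain ⟨u₀, hu₀W, hu₀⟩ := hex2
  -- the `(-1) ^ (e - 1)`-hermitian symmetry
  have he' : ∀ w ∈ W, ((T - 1) ^ (e - 1 + 1)) w = 0 := by
    have : e - 1 + 1 = e := by omega
    rw [this]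
    exact he
  have hsym : ∀ x ∈ W, ∀ y ∈ W, B y (((T - 1) ^ (e - 1)) x) =
      (-1) ^ (e - 1) * σ (B x (((T - 1) ^ (e - 1)) y)) := by
    intro x hx y hy
    rw [hIso.herm (((T - 1) ^ (e - 1)) x) y, uform_adj B T hIso W hW.1 (e - 1) he' x hx y hy,
      map_mul, map_pow, map_neg, map_one]
  -- polarization
  have hex3 : ∃ x ∈ W, B x (((T - 1) ^ (e - 1)) x) ≠ 0 := by
    by_contra hcon
    push Not at hcon
    obtain ⟨a, ha⟩ := hIso.nontriv
    have key : ∀ c : F, σ c * B u₀ (((T - 1) ^ (e - 1)) w₀) +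
        c * ((-1) ^ (e - 1) * σ (B u₀ (((T - 1) ^ (e - 1)) w₀))) = 0 := by
      intro c
      have h1 := hcon (u₀ + c • w₀) (W.add_mem hu₀W (W.smul_mem c hw₀W))
      simp only [map_add, LinearMap.add_apply, map_smul, LinearMap.smul_apply,
        LinearMap.map_smulₛₗ, smul_eq_mul] at h1
      rw [hcon u₀ hu₀W, hcon w₀ hw₀W, hsym u₀ hu₀W w₀ hw₀W] at h1
      linear_combination h1
    have k1 := key 1
    have ka := key a
    rw [map_one, one_mul, one_mul] at k1
    have : (σ a - a) * B u₀ (((T - 1) ^ (e - 1)) w₀) = 0 := by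
      linear_combination ka - a * k1
    rcases mul_eq_zero.1 this with h | h
    · exact ha (sub_eq_zero.1 h)
    · exact hu₀ h
  obtain ⟨x, hxW, hx⟩ := hex3
  obtain ⟨P, hPW, hNdP, hdim⟩ := hC F σ V B T hIso W hW.1 e he0 x hxW (he x hxW) hx
  exact ⟨P, e, hPW, hNdP, he0, hdim⟩

example (hC : StUUCyc.{u, v}) : Cfsg.Agent.H42.Un.StUUBlock.{u, v} := uUBlock hC

end Cfsg.Agent.H56.Un
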